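import Cfsg.Agent.Lib.PGroup.Frattini
import Cfsg.Agent.Lib.PGroup.Class2
import Cfsg.Agent.Lib.PGroup.MaximalClass
import Cfsg.Agent.Lib.Coprime.Basic
import Cfsg.Agent.Lib.OddOrder41.SmallOmega
import Cfsg.Agent.Lib.Struct76.RankTwoHeisenberg
import Cfsg.Agent.S0662

/-!
# `p`-groups of rank two with a distinguished central element: general tools
-/

set_option autoImplicit false
set_option linter.unusedSectionVars false

namespace CfsgLib.LocalEvenSix.IsoRankTwo

open Subgroup
open scoped commutatorElement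

variable {p : ℕ} [hp : Fact p.Prime] {P : Type*} [Group P] [Finite P]

/-- The map `u ↦ u⁻¹ z⁻¹ u z`. -/
def step (z u : P) : P := u⁻¹ * z⁻¹ * u * z

theorem step_eq (z u : P) : step z u = ⁅u⁻¹, z⁻¹⁆ := by simp [step, commutatorElement_def]

theorem step_mem_lcs_succ {z u : P} {i : ℕ} (h : u ∈ (⊤ : Subgroup P).lowerCentralSeries i) :
    step z u ∈ (⊤ : Subgroup P).lowerCentralSeries (i + 1) := by
  rw [step_eq, Subgroup.lowerCentralSeries_succ]
  exact commutator_mem_commutator (inv_mem h) (mem_top _)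

/-- The condition making the normalizer of a Sylow subgroup of this isomorphism type control transfer. -/
def WY (P : Type*) [Group P] : Prop :=
  ∀ (z u : P) (W : Subgroup P), IsCoatom W → step z (step z u) ∈ (frattini ↥W).map W.subtype

theorem card_zpowers_le_of_pow_eq_one {a : P} {k : ℕ} (h : a ^ k = 1) (hk : 0 < k) :
    Nat.card (zpowers a) ≤ k := by
  rw [Nat.card_zpowers]
  exact orderOf_le_of_pow_eq_one hk h

theorem card_sup_le {A B : Subgroup P} (h : A ≤ normalizer (B : Set P)) :
    Nat.card (A ⊔ B : Subgroup P) ≤ Nat.card A * Nat.card B :=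
  Nat.le_of_dvd (Nat.mul_pos Nat.card_pos Nat.card_pos) (CfsgLib.Coprime.card_sup_dvd h)

/-- A group generated by two elements has Frattini quotient of order at most `p ^ 2`. -/
theorem index_frattini_le_of_two (hP : IsPGroup p P) (a b : P)
    (h : closure ({a, b} : Set P) ⊔ frattini P = ⊤) : (frattini P).index ≤ p ^ 2 := by
  set Φ := frattini P
  set π := QuotientGroup.mk' Φ
  have hcomm : ∀ x y : P ⧸ Φ, x * y = y * x := by
    intro x y
    obtain ⟨x, rfl⟩ := QuotientGroup.mk'_surjective Φ x
    obtain ⟨y, rfl⟩ := QuotientGroup.mk'_surjective Φ y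
    rw [← commutatorElement_eq_one_iff_mul_comm, ← map_commutatorElement]
    exact (QuotientGroup.eq_one_iff _).2
      (CfsgLib.PGroup.commutator_le_frattini hP (commutator_mem_commutator (mem_top x) (mem_top y)))
  have htop : zpowers (π a) ⊔ zpowers (π b) = ⊤ := by
    rw [← MonoidHom.map_zpowers, ← MonoidHom.map_zpowers, ← Subgroup.map_sup,
      ← Subgroup.map_top_of_surjective π (QuotientGroup.mk'_surjective Φ), ← h,
      Subgroup.map_sup (closure ({a, b} : Set P)) Φ]
    rw [show Φ.map π = ⊥ from (Subgroup.map_eq_bot_iff Φ).2 (QuotientGroup.ker_mk' Φ).ge, sup_bot_eq]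
    congr 1
    rw [Set.insert_eq, Subgroup.closure_union, ← zpowers_eq_closure, ← zpowers_eq_closure]
  have hN : zpowers (π a) ≤ normalizer (zpowers (π b) : Set (P ⧸ Φ)) := by
    intro g _
    rw [mem_normalizer_iff]
    intro x
    rw [hcomm g x, mul_inv_cancel_right]
  have h1 : ∀ c : P, (π c) ^ p = 1 := fun c => by
    rw [← map_pow]; exact (QuotientGroup.eq_one_iff _).2 (CfsgLib.PGroup.pow_mem_frattini hP c)
  have := card_sup_le hN
  rw [htop, card_top, ← Subgroup.index_eq_card] at this
  calc Φ.index ≤ _ := this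
    _ ≤ p * p := Nat.mul_le_mul (card_zpowers_le_of_pow_eq_one (h1 a) hp.out.pos)
        (card_zpowers_le_of_pow_eq_one (h1 b) hp.out.pos)
    _ = p ^ 2 := (sq p).symm

/-- A metacyclic group has Frattini quotient of order at most `p ^ 2`. -/
theorem index_frattini_le_of_metacyclic (hP : IsPGroup p P) (hm : Cfsg.IsMetacyclic P) :
    (frattini P).index ≤ p ^ 2 := by
  obtain ⟨N, hN, hNc, hQc⟩ := hm
  obtain ⟨a, ha⟩ := (Subgroup.isCyclic_iff_exists_zpowers_eq_top N).1 hNc
  obtain ⟨q, hq⟩ := hQc.exists_generator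
  obtain ⟨b, rfl⟩ := QuotientGroup.mk'_surjective N q
  refine index_frattini_le_of_two hP a b (top_le_iff.1 fun x _ => mem_sup_left ?_)
  obtain ⟨i, hi⟩ := mem_zpowers_iff.1 (hq (QuotientGroup.mk' N x))
  have hx : (b ^ i)⁻¹ * x ∈ N := QuotientGroup.eq.1 hi
  rw [← ha] at hx
  obtain ⟨j, hj⟩ := mem_zpowers_iff.1 hx
  rw [show x = b ^ i * a ^ j by rw [hj]; group]
  exact mul_mem (zpow_mem (subset_closure (by simp)) _) (zpow_mem (subset_closure (by simp)) _)

/-- A normal nontrivial subgroup contains the only central subgroup of order `p`. -/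
theorem mem_of_normal_ne_bot (hP : IsPGroup p P) {N : Subgroup P} [N.Normal] (hN : N ≠ ⊥) {c : P}
    (hc : ∀ d ∈ center P, d ^ p = 1 → d ∈ zpowers c) (hco : orderOf c = p) : c ∈ N := by
  obtain ⟨Z, hZN, hZc, hZ⟩ := CfsgLib.OddOrder41.exists_central_order_p hP N hN
  have hle : Z ≤ zpowers c := fun d hd => hc d (hZc hd) (by
    have h := pow_card_eq_one' (x := (⟨d, hd⟩ : Z))
    rw [hZ] at h
    exact congrArg Subtype.val h)
  have e : Z = zpowers c := eq_of_le_of_card_ge hle (by rw [Nat.card_zpowers, hco, hZ])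
  exact hZN (e ▸ mem_zpowers c)

/-- In rank two the Frattini subgroup of a subgroup of order at least `p ^ 3` is nontrivial. -/
theorem frattini_map_ne_bot (hrk : Cfsg.PRankLE p 2 P) (hP : IsPGroup p P) {W : Subgroup P}
    (hW : p ^ 3 ≤ Nat.card W) : (frattini ↥W).map W.subtype ≠ ⊥ := by
  intro h
  rw [Subgroup.map_eq_bot_iff_of_injective _ W.subtype_injective] at h
  have hWp : IsPGroup p W := hP.to_subgroup W
  have hcomm : IsMulCommutative W := ⟨⟨fun a b => by
    rw [← commutatorElement_eq_one_iff_mul_comm, ← mem_bot, ← h]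
    exact CfsgLib.PGroup.commutator_le_frattini hWp (commutator_mem_commutator (mem_top a) (mem_top b))⟩⟩
  have hexp : ∀ a ∈ W, a ^ p = 1 := fun a ha => by
    have := CfsgLib.PGroup.pow_mem_frattini hWp (⟨a, ha⟩ : W)
    rw [h, mem_bot] at this
    simpa using congrArg Subtype.val this
  have := hW.trans (hrk W hcomm hexp)
  exact absurd this (not_le.2 (Nat.pow_lt_pow_right hp.out.one_lt (by norm_num)))

/-- `frattini W` is normal in the whole group when `W` is. -/
theorem frattini_map_normal {W : Subgroup P} [W.Normal] : ((frattini ↥W).map W.subtype).Normal :=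
  inferInstance

theorem pRankLE_subgroup (hrk : Cfsg.PRankLE p 2 P) (W : Subgroup P) : Cfsg.PRankLE p 2 ↥W := by
  intro A hA hAp
  rw [← card_map_of_injective (K := A) W.subtype_injective]
  refine hrk _ ⟨⟨?_⟩⟩ ?_
  · rintro ⟨_, a, ha, rfl⟩ ⟨_, b, hb, rfl⟩
    exact Subtype.ext (congrArg W.subtype (congrArg Subtype.val (hA.is_comm.comm ⟨a, ha⟩ ⟨b, hb⟩)))
  · rintro _ ⟨a, ha, rfl⟩
    rw [← map_pow, hAp a ha, map_one]

/-- Two commuting independent elements of order `p` absorb every element of order `p` commuting with both. -/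
theorem mem_closure_pair (hrk : Cfsg.PRankLE p 2 P) {a b c : P} (hab : a * b = b * a) (hca : c * a = a * c)
    (hcb : c * b = b * c) (ha : a ^ p = 1) (hb : b ^ p = 1) (hc : c ^ p = 1) (ha1 : a ≠ 1)
    (hba : b ∉ zpowers a) : c ∈ closure ({a, b} : Set P) := by
  have hcm : ∀ u ∈ ({a, b} : Set P), ∀ v ∈ ({a, b} : Set P), u * v = v * u := by
    rintro u (rfl | rfl) v (rfl | rfl)
    · rfl
    · exact hab
    · exact hab.symm
    · rfl
  haveI hcl : IsMulCommutative (closure ({a, b} : Set P)) := Subgroup.isMulCommutative_closure hcm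
  have hcomm : ∀ u ∈ closure ({a, b} : Set P), ∀ v ∈ closure ({a, b} : Set P), u * v = v * u :=
    fun u hu v hv => congrArg Subtype.val (hcl.is_comm.comm ⟨u, hu⟩ ⟨v, hv⟩)
  refine CfsgLib.Struct76.mem_of_rank_two hrk _ hcomm ?_ ?_ hc ?_
  · intro u hu
    induction hu using closure_induction with
    | mem v hv => rcases hv with rfl | rfl <;> assumption
    | one => exact one_pow p
    | mul v w hv hw i1 i2 => rw [Commute.mul_pow (hcomm v hv w hw), i1, i2, one_mul]
    | inv v _ i1 => rw [inv_pow, i1, inv_one]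
  · have h1 : zpowers a < closure ({a, b} : Set P) :=
      lt_of_le_of_ne (zpowers_le.2 (subset_closure (by simp))) fun e =>
        hba (e ▸ subset_closure (by simp))
    have hoa : Nat.card (zpowers a) = p := by rw [Nat.card_zpowers, orderOf_eq_prime ha ha1]
    have h2 : p ∣ Nat.card (closure ({a, b} : Set P)) := hoa ▸ card_dvd_of_le h1.le
    obtain ⟨m, hm⟩ := h2
    rw [hm, sq]
    refine Nat.mul_le_mul_left p ?_
    by_contra hlt
    have hm2 : m ≠ 1 := fun e => h1.ne (eq_of_le_of_card_ge h1.le (by rw [hm, e, mul_one, hoa]))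
    have hpg : ∃ k, Nat.card (closure ({a, b} : Set P)) = p ^ k := by
      have hpg' : IsPGroup p (closure ({a, b} : Set P)) := fun u => ⟨1, Subtype.ext (by
        rw [pow_one, SubgroupClass.coe_pow]
        obtain ⟨u, hu⟩ := u
        show u ^ p = 1
        induction hu using closure_induction with
        | mem v hv => rcases hv with rfl | rfl <;> assumption
        | one => exact one_pow p
        | mul v w hv hw i1 i2 => rw [Commute.mul_pow (hcomm v hv w hw), i1, i2, one_mul]
        | inv v _ i1 => rw [inv_pow, i1, inv_one])⟩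
      exact IsPGroup.iff_card.1 hpg'
    obtain ⟨k, hk⟩ := hpg
    have hmd : m ∣ p ^ k := ⟨p, by rw [← hk, hm]; ring⟩
    obtain ⟨i, -, rfl⟩ := (Nat.dvd_prime_pow hp.out).1 hmd
    rcases i with _ | i
    · exact hm2 (pow_zero p)
    · exact hlt (Nat.le_self_pow i.succ_ne_zero p)
  · intro u hu
    induction hu using closure_induction with
    | mem v hv => rcases hv with rfl | rfl <;> assumption
    | one => simp
    | mul v w _ _ i1 i2 => rw [← mul_assoc, i1, mul_assoc, i2, mul_assoc]
    | inv v _ i1 => exact (Commute.inv_right (show Commute c v from i1)).eq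

/-- The class is maximal as soon as the lower central series is long enough. -/
theorem class_eq {n : ℕ} (hP : Nat.card P = p ^ n) (hn : 2 ≤ n)
    (h : (⊤ : Subgroup P).lowerCentralSeries (n - 2) ≠ ⊥) : Group.nilpotencyClass P = n - 1 := by
  haveI := (IsPGroup.of_card hP).isNilpotent
  have h1 := CfsgLib.MaxClass.class_le n P hP hn
  have h2 : ¬ Group.nilpotencyClass P ≤ n - 2 := fun hh =>
    h (Subgroup.lowerCentralSeries_eq_bot_iff_nilpotencyClass_le.2 hh)
  omega

end CfsgLib.LocalEvenSix.IsoRankTwo
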