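import Cfsg.Agent.Lib.LocalEvenSix.IsoRankTwo.MaxClass
import Cfsg.Agent.Lib.LocalEven.WielandtYoshida
import Cfsg.Agent.Lib.Transfer.NormalComplement
import Cfsg.Agent.S1447

/-!
# Sylow subgroups of a perfect group with an element of order `p` fixed by fusion, rank two
-/

set_option autoImplicit false
set_option linter.unusedSectionVars false

namespace CfsgLib.LocalEvenSix.IsoRankTwo

open Subgroup
open scoped commutatorElement

variable {K : Type*} [Group K] [Finite K] {p : ℕ} [hp : Fact p.Prime]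

theorem sylow_le_of_pprime (P : Sylow p K) {S : Subgroup ↥(normalizer ((P : Subgroup K) : Set K))}
    (hP : (P : Subgroup K).subgroupOf _ ≤ S)
    (h : ∀ n : ↥(normalizer ((P : Subgroup K) : Set K)), (orderOf n).Coprime p → n ∈ S) : S = ⊤ :=
  top_le_iff.1 ((CfsgLib.Transfer.sylow_sup_pResidual (P.subtype le_normalizer)).ge.trans
    (sup_le hP (CfsgLib.Transfer.pResidual_le_iff.2 h)))

/-- Transfer: in a perfect group `N(P)` cannot fix an element outside a subgroup containing `Φ(P)`. -/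
theorem false_of_stuck (hperf : commutator K = ⊤) (P : Sylow p K) (hp2 : p ≠ 2)
    (hWY : WY ↥(P : Subgroup K)) (M : Subgroup ↥(P : Subgroup K)) [M.Normal]
    (hM : frattini ↥(P : Subgroup K) ≤ M) (z : ↥(P : Subgroup K)) (hz : z ∉ M)
    (hfix : ∀ n : ↥(normalizer ((P : Subgroup K) : Set K)),
      (P : Subgroup K).normalizerMonoidHom n z * z⁻¹ ∈ M) : False := by
  classical
  have hwc : Cfsg.IsWeaklyClosed (P : Subgroup K) (P : Subgroup K) :=
    ⟨le_rfl, fun g hg => eq_of_le_of_card_ge hg (card_map_of_injective (MulAut.conj g).injective).ge⟩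
  have hcom := CfsgLib.LocalEven.WielandtYoshida.inf_commutator_eq P (P : Subgroup K) hwc (by
    intro u hu z hz W hW _
    set F := (frattini ↥W).map W.subtype with hF
    haveI : W.Normal := CfsgLib.PGroup.normal_of_isCoatom P.2 hW
    haveI hFn : F.Normal := inferInstance
    let z' : ↥(P : Subgroup K) := ⟨z, hz⟩
    have hit : ∀ m : ℕ, ∃ w : ↥(P : Subgroup K), (w : K) = (fun y : K => y⁻¹ * z⁻¹ * y * z)^[m] u ∧
        (2 ≤ m → w ∈ F) := by
      intro m
      induction m with
      | zero => exact ⟨⟨u, hu⟩, rfl, fun h => absurd h (by omega)⟩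
      | succ m ih =>
        obtain ⟨w, hw, hwF⟩ := ih
        refine ⟨step z' w, ?_, fun h2 => ?_⟩
        · rw [Function.iterate_succ_apply', ← hw]; simp [step, z']
        · rcases Nat.lt_or_ge m 2 with hm | hm
          · obtain rfl : m = 1 := by omega
            have he : w = step z' ⟨u, hu⟩ := Subtype.ext (by rw [hw]; simp [step, z'])
            rw [he]; exact hWY _ _ W hW
          · have h' := hwF hm
            show w⁻¹ * z'⁻¹ * w * z' ∈ F
            rw [mul_assoc, mul_assoc]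
            refine mul_mem (inv_mem h') ?_
            rw [← mul_assoc]
            simpa using hFn.conj_mem w h' z'⁻¹
    obtain ⟨w, hw, hwF⟩ := hit (p - 1)
    refine ⟨w, hwF ?_, hw⟩
    have := hp.out.two_le
    omega)
  set N := normalizer ((P : Subgroup K) : Set K) with hN
  have hPN : (P : Subgroup K) ≤ N := le_normalizer
  have hzN : (z : K) ∈ ⁅N, N⁆ := by
    have : (z : K) ∈ (P : Subgroup K) ⊓ commutator K := ⟨z.2, hperf ▸ mem_top _⟩
    rw [hcom] at this
    exact this.2
  have hzN' : (⟨z, hPN z.2⟩ : N) ∈ commutator N := by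
    have h : ⁅N, N⁆ = (commutator N).map N.subtype := by
      rw [_root_.commutator_def, map_commutator, ← MonoidHom.range_eq_map, range_subtype]
    rw [h] at hzN
    obtain ⟨y, hy, hyz⟩ := hzN
    exact (show y = ⟨z, hPN z.2⟩ from Subtype.ext hyz) ▸ hy
  -- the transfer to `P / M`
  haveI hab : IsMulCommutative (↥(P : Subgroup K) ⧸ M) :=
    Subgroup.Normal.quotient_commutative_iff_commutator_le.2
      ((CfsgLib.PGroup.commutator_le_frattini P.2).trans hM)
  letI : CommGroup (↥(P : Subgroup K) ⧸ M) := { mul_comm := hab.is_comm.comm }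
  let Pn := (P : Subgroup K).subgroupOf N
  let φ : Pn →* ↥(P : Subgroup K) ⧸ M :=
    (QuotientGroup.mk' M).comp (subgroupOfEquivOfLe hPN).toMonoidHom
  have hexp : ∀ a : ↥(P : Subgroup K) ⧸ M, a ^ p = 1 := fun a => by
    obtain ⟨a, rfl⟩ := QuotientGroup.mk'_surjective M a
    rw [← map_pow]
    exact (QuotientGroup.eq_one_iff _).2 (hM (CfsgLib.PGroup.pow_mem_frattini P.2 a))
  haveI := Fintype.ofFinite (N ⧸ Pn)
  have hlong : ∀ (r : ℕ) (g : N) (h : g⁻¹ * (⟨z, hPN z.2⟩ : N) ^ r * g ∈ Pn), 1 < r →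
      r ∣ orderOf (⟨z, hPN z.2⟩ : N) → φ ⟨_, h⟩ = 1 := by
    intro r g h hr hd
    rw [Subgroup.orderOf_mk] at hd
    obtain ⟨k, hk⟩ := IsPGroup.iff_orderOf.1 P.2 z
    rw [Subgroup.orderOf_coe, hk] at hd
    obtain ⟨i, -, rfl⟩ := (Nat.dvd_prime_pow hp.out).1 hd
    rcases i with _ | i
    · simp at hr
    have hmem : g⁻¹ * (⟨z, hPN z.2⟩ : N) ^ p ^ i * g ∈ Pn := by
      rw [mem_subgroupOf]
      simp only [Subgroup.coe_mul, Subgroup.coe_inv, SubgroupClass.coe_pow]
      exact (mem_normalizer_iff''.1 g.2 _).1 (pow_mem z.2 _)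
    have e : (⟨_, h⟩ : Pn) = (⟨_, hmem⟩ : Pn) ^ p := Subtype.ext (by
      have key : g⁻¹ * (⟨z, hPN z.2⟩ : N) ^ p ^ (i + 1) * g =
          (g⁻¹ * (⟨z, hPN z.2⟩ : N) ^ p ^ i * g) ^ p := by
        rw [pow_succ, pow_mul]
        simpa using map_pow (MulAut.conj g⁻¹) ((⟨z, hPN z.2⟩ : N) ^ p ^ i) p
      exact key)
    rw [e, map_pow, hexp]
  have htr := CfsgLib.TransferFix82.transfer_eq_prod_fixVal φ (⟨z, hPN z.2⟩ : N) hlong
  have hval : ∀ q : N ⧸ Pn, CfsgLib.TransferFix82.fixVal φ (⟨z, hPN z.2⟩ : N) q = QuotientGroup.mk' M z := by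
    intro q
    obtain ⟨g, rfl⟩ := QuotientGroup.mk_surjective q
    have hmem : g⁻¹ * (⟨z, hPN z.2⟩ : N) * g ∈ Pn := by
      rw [mem_subgroupOf]
      exact (mem_normalizer_iff''.1 g.2 _).1 z.2
    rw [CfsgLib.TransferFix82.fixVal_mk φ _ g hmem]
    refine (QuotientGroup.eq.2 ?_)
    have hh := hfix g⁻¹
    set w := (P : Subgroup K).normalizerMonoidHom g⁻¹ z with hw
    have he : subgroupOfEquivOfLe hPN (⟨_, hmem⟩ : Pn) = w := Subtype.ext (by
      rw [hw]
      show ((g⁻¹ * (⟨z, hPN z.2⟩ : N) * g : N) : K) = (g⁻¹ : N) * (z : K) * ((g⁻¹ : N) : K)⁻¹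
      simp)
    show (subgroupOfEquivOfLe hPN (⟨_, hmem⟩ : Pn))⁻¹ * z ∈ M
    rw [he]
    have := inv_mem hh
    rw [mul_inv_rev, inv_inv] at this
    exact (inferInstance : M.Normal).mem_comm this
  have h1 : MonoidHom.transfer φ (⟨z, hPN z.2⟩ : N) = 1 :=
    Abelianization.commutator_subset_ker _ hzN'
  rw [htr, Finset.prod_congr rfl (fun q _ => hval q), Finset.prod_const, Finset.card_univ] at h1
  have hidx : ¬ p ∣ Pn.index := by
    intro hd
    exact P.not_dvd_index (hd.trans (relIndex_dvd_index_of_le hPN))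
  rw [← Nat.card_eq_fintype_card, ← Subgroup.index_eq_card] at h1
  have h2 := pow_gcd_eq_one.2 ⟨h1, hexp (QuotientGroup.mk' M z)⟩
  rw [Nat.Coprime.gcd_eq_one ((hp.out.coprime_iff_not_dvd.2 hidx).symm), pow_one] at h2
  exact hz ((QuotientGroup.eq_one_iff z).1 h2)

/-- `Stuck` Sylow subgroups do not occur. -/
theorem not_stuck (hperf : commutator K = ⊤) (P : Sylow p K) (hp2 : p ≠ 2)
    {x₀ : ↥(P : Subgroup K)} (hfixx : ∀ g : K, g * (x₀ : K) * g⁻¹ ∈ (P : Subgroup K) → g * (x₀ : K) * g⁻¹ = x₀) :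
    ¬ Stuck ↥(P : Subgroup K) x₀ := by
  rintro ⟨hWY, hA⟩
  obtain ⟨M, hMn, hM, z, hz, hfix⟩ := hA (P : Subgroup K).normalizerMonoidHom.range (by
    rintro _ ⟨n, rfl⟩
    apply Subtype.ext
    exact hfixx n ((mem_normalizer_iff.1 n.2 _).1 x₀.2))
  haveI := hMn
  exact false_of_stuck hperf P hp2 hWY M hM z hz fun n => hfix _ ⟨n, rfl⟩

/-- The distinguished element lies in the commutator subgroup. -/
theorem mem_commutator_of_fixed (hperf : commutator K = ⊤) (P : Sylow p K)
    {x₀ : ↥(P : Subgroup K)} (hx₀p : orderOf x₀ = p)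
    (hfixx : ∀ g : K, g * (x₀ : K) * g⁻¹ ∈ (P : Subgroup K) → g * (x₀ : K) * g⁻¹ = x₀) :
    x₀ ∈ commutator ↥(P : Subgroup K) := by
  classical
  have hx₀q : x₀ ^ p = 1 := orderOf_dvd_iff_pow_eq_one.1 hx₀p.dvd
  have hxK : (x₀ : K) ^ p = 1 := by simpa using congrArg Subtype.val hx₀q
  have hkey : ∀ (k : ℕ) (g₀ : K), g₀⁻¹ * (x₀ : K) ^ k * g₀ ∈ (P : Subgroup K) →
      g₀⁻¹ * (x₀ : K) ^ k * g₀ = (x₀ : K) ^ k := by
    intro k g₀ hk
    by_cases h1 : (x₀ : K) ^ k = 1
    · simp [h1]
    have hgen : (x₀ : K) ∈ zpowers ((x₀ : K) ^ k) := by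
      have e : zpowers ((x₀ : K) ^ k) = zpowers (x₀ : K) :=
        eq_of_le_of_card_ge (zpowers_le.2 (pow_mem (mem_zpowers _) k)) (by
          rw [Nat.card_zpowers, Nat.card_zpowers, Subgroup.orderOf_coe, hx₀p,
            orderOf_eq_prime (by rw [← pow_mul, mul_comm, pow_mul, hxK, one_pow]) h1])
      rw [e]; exact mem_zpowers _
    obtain ⟨m, hm⟩ := mem_zpowers_iff.1 hgen
    have hc : g₀⁻¹ * (x₀ : K) * g₀⁻¹⁻¹ = x₀ := by
      refine hfixx g₀⁻¹ ?_
      rw [inv_inv, ← hm]
      have := zpow_mem hk m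
      have e : g₀⁻¹ * ((x₀ : K) ^ k) ^ m * g₀ = (g₀⁻¹ * (x₀ : K) ^ k * g₀) ^ m := by
        have := map_zpow (MulAut.conj g₀⁻¹) ((x₀ : K) ^ k) m
        simpa using this
      rw [e]; exact this
    rw [inv_inv] at hc
    have := map_pow (MulAut.conj g₀⁻¹) (x₀ : K) k
    simp only [MulAut.conj_apply, inv_inv] at this
    rw [this, hc]
  have h := MonoidHom.transfer_eq_pow (Abelianization.of (G := ↥(P : Subgroup K))) (x₀ : K) hkey
  have h1 : MonoidHom.transfer (Abelianization.of (G := ↥(P : Subgroup K))) (x₀ : K) = 1 :=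
    Abelianization.commutator_subset_ker _ (hperf ▸ mem_top _)
  rw [h1] at h
  have h2 : (Abelianization.of x₀) ^ (P : Subgroup K).index = 1 := by
    rw [← map_pow]
    refine Eq.trans (congrArg _ ?_) h.symm
    exact Subtype.ext (by simp)
  have h3 : (Abelianization.of x₀) ^ p = 1 := by
    rw [← map_pow, hx₀q, map_one]
  have h4 := pow_gcd_eq_one.2 ⟨h2, h3⟩
  rw [Nat.Coprime.gcd_eq_one ((hp.out.coprime_iff_not_dvd.2 P.not_dvd_index).symm), pow_one] at h4
  exact (QuotientGroup.eq_one_iff x₀).1 h4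

/-- No metacyclic Sylow subgroup. -/
theorem not_metacyclic (hperf : commutator K = ⊤) (P : Sylow p K) (hp2 : p ≠ 2)
    {x₀ : ↥(P : Subgroup K)} (hx₀p : orderOf x₀ = p)
    (hfixx : ∀ g : K, g * (x₀ : K) * g⁻¹ ∈ (P : Subgroup K) → g * (x₀ : K) * g⁻¹ = x₀) :
    ¬ Cfsg.IsMetacyclic ↥(P : Subgroup K) := by
  intro hm
  have hx₀1 : x₀ ≠ 1 := fun e => by rw [e, orderOf_one] at hx₀p; exact hp.out.ne_one hx₀p.symm
  have hxc := mem_commutator_of_fixed hperf P hx₀p hfixx
  have hna : ¬ IsMulCommutative ↥(P : Subgroup K) := fun hc => hx₀1 (by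
    have hb : commutator ↥(P : Subgroup K) = ⊥ := by
      rw [eq_bot_iff, _root_.commutator_def, commutator_le]
      intro a _ b _
      rw [mem_bot, commutatorElement_eq_one_iff_mul_comm]
      exact hc.is_comm.comm a b
    rw [hb, mem_bot] at hxc
    exact hxc)
  obtain ⟨N₀, hN₀, hN₀c, hQc⟩ := hm
  have hcle : commutator ↥(P : Subgroup K) ≤ N₀ :=
    Subgroup.Normal.quotient_commutative_iff_commutator_le.1 (IsCyclic.isMulCommutative)
  haveI hcc : IsCyclic (commutator ↥(P : Subgroup K)) :=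
    isCyclic_of_injective _ (Subgroup.inclusion_injective hcle)
  obtain ⟨c, hc⟩ := (Subgroup.isCyclic_iff_exists_zpowers_eq_top _).1 hcc
  have hnt : (P : Subgroup K) ≠ ⊥ := fun e => hx₀1 (Subtype.ext (by
    simpa using (Subgroup.eq_bot_iff_forall _).1 e _ x₀.2))
  haveI : Nontrivial ↥(P : Subgroup K) := (nontrivial_iff_ne_bot _).2 hnt
  -- iterated commutators
  have hWY : WY ↥(P : Subgroup K) := by
    intro w u W hW
    haveI := CfsgLib.PGroup.normal_of_isCoatom P.2 hW
    have h1 : step w u ∈ commutator ↥(P : Subgroup K) := by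
      rw [step_eq]; exact commutator_mem_commutator (mem_top _) (mem_top _)
    set C := commutator ↥(P : Subgroup K) with hC
    set C2 := ⁅C, (⊤ : Subgroup ↥(P : Subgroup K))⁆ with hC2
    have h2 : step w (step w u) ∈ C2 := by
      rw [step_eq w (step w u)]; exact commutator_mem_commutator (inv_mem h1) (mem_top _)
    have hlt : C2 < C := by
      refine lt_of_le_of_ne (commutator_le_left C ⊤) fun e => hna ?_
      haveI := P.2.isNilpotent
      obtain ⟨k, hk⟩ := Subgroup.nilpotent_iff_lowerCentralSeries.mp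
        (inferInstance : Group.IsNilpotent ↥(P : Subgroup K))
      have hle : ∀ i, C ≤ (⊤ : Subgroup ↥(P : Subgroup K)).lowerCentralSeries i := by
        intro i
        induction i with
        | zero => rw [Subgroup.lowerCentralSeries_zero]; exact le_top
        | succ i ihi =>
          rw [Subgroup.lowerCentralSeries_succ, ← e, hC2]
          exact commutator_mono ihi le_rfl
      have hbot : C = ⊥ := le_bot_iff.1 (hk ▸ hle k)
      refine ⟨⟨fun a b => ?_⟩⟩
      rw [← commutatorElement_eq_one_iff_mul_comm, ← mem_bot, ← hbot]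
      exact commutator_mem_commutator (mem_top a) (mem_top b)
    obtain ⟨i, hi⟩ := mem_zpowers_iff.1 (hc.symm ▸ hlt.le h2 : step w (step w u) ∈ zpowers c)
    have hcC : c ∈ C := by rw [← hc]; exact mem_zpowers c
    have hdiv : (p : ℤ) ∣ i := by
      by_contra hnd
      refine hlt.not_ge ?_
      rw [← hc, zpowers_le]
      obtain ⟨k, hk⟩ := IsPGroup.iff_orderOf.1 P.2 c
      have hco : IsCoprime i ((p ^ k : ℕ) : ℤ) := by
        push_cast
        exact IsCoprime.pow_right (((Nat.prime_iff_prime_int.1 hp.out).coprime_iff_not_dvd.2 hnd).symm)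
      obtain ⟨a, b, hab⟩ := hco
      have e : c = (c ^ i) ^ a := by
        rw [← zpow_mul, mul_comm]
        conv_lhs => rw [← zpow_one c, ← hab, zpow_add, mul_comm b, zpow_mul c ((p ^ k : ℕ) : ℤ) b,
          zpow_natCast, ← hk, pow_orderOf_eq_one, one_zpow, mul_one]
      rw [e]
      exact zpow_mem (hi ▸ h2) a
    obtain ⟨m, rfl⟩ := hdiv
    rw [← hi, mul_comm, zpow_mul, zpow_natCast]
    have hcW : c ^ m ∈ W := zpow_mem (CfsgLib.PGroup.commutator_le_of_isCoatom P.2 hW hcC) m
    exact ⟨(⟨c ^ m, hcW⟩ : W) ^ p, CfsgLib.PGroup.pow_mem_frattini (P.2.to_subgroup W) _, by simp⟩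
  obtain ⟨z, hz⟩ : ∃ z : ↥(P : Subgroup K), z ∉ frattini ↥(P : Subgroup K) := by
    by_contra! hall
    exact CfsgLib.PGroup.frattini_ne_top (P := ↥(P : Subgroup K)) (eq_top_iff.2 fun g _ => hall g)
  set Φ := frattini ↥(P : Subgroup K)
  set N := normalizer ((P : Subgroup K) : Set K)
  refine false_of_stuck hperf P hp2 hWY _ le_rfl z hz fun n => ?_
  let act := (P : Subgroup K).normalizerMonoidHom
  have hΦc : ∀ (φ : MulAut ↥(P : Subgroup K)) (a : ↥(P : Subgroup K)), a ∈ Φ → φ a ∈ Φ := fun φ a ha => by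
    have := mem_map_of_mem φ.toMonoidHom ha
    rwa [characteristic_iff_map_eq.1 (inferInstance : Φ.Characteristic) φ] at this
  let S : Subgroup N :=
    { carrier := {n | act n z * z⁻¹ ∈ Φ}
      one_mem' := by simp
      mul_mem' := fun {a b} ha hb => by
        show act (a * b) z * z⁻¹ ∈ Φ
        have := mul_mem (hΦc (act a) _ hb) ha
        rw [map_mul, map_inv] at this
        rw [map_mul act a b, MulAut.mul_apply]
        simpa [mul_assoc] using this
      inv_mem' := fun {a} ha => by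
        show act a⁻¹ z * z⁻¹ ∈ Φ
        have := inv_mem (hΦc (act a⁻¹) _ ha)
        rw [map_mul (act a⁻¹), map_inv (act a⁻¹), ← MulAut.mul_apply, ← map_mul act, inv_mul_cancel, map_one act,
          MulAut.one_apply, mul_inv_rev, inv_inv] at this
        exact this }
  have hS : S = ⊤ := by
    refine sylow_le_of_pprime P ?_ ?_
    · intro n hn
      show act n z * z⁻¹ ∈ Φ
      have e : act n z * z⁻¹ = ⁅(⟨(n : K), hn⟩ : ↥(P : Subgroup K)), z⁆ := Subtype.ext (by
        show (n : K) * (z : K) * (n : K)⁻¹ * (z : K)⁻¹ = _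
        simp [commutatorElement_def])
      rw [e]
      exact CfsgLib.PGroup.commutator_le_frattini P.2 (commutator_mem_commutator (mem_top _) (mem_top _))
    · intro n hn
      show act n z * z⁻¹ ∈ Φ
      suffices h : zpowers (n : K) ≤ centralizer ((P : Subgroup K) : Set K) by
        have e : act n z = z := Subtype.ext (by
          show (n : K) * (z : K) * (n : K)⁻¹ = z
          rw [← mem_centralizer_iff.1 (h (mem_zpowers _)) z z.2, mul_inv_cancel_right])
        rw [e, mul_inv_cancel]; exact one_mem _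
      by_contra hcen
      have hR := Cfsg.Agent.S1447.result p hp2 (P : Subgroup K) (zpowers (n : K)) P.2 ⟨N₀, hN₀, hN₀c, hQc⟩
        (zpowers_le.2 n.2) (by rw [Nat.card_zpowers, Subgroup.orderOf_coe]; exact hn)
      obtain ⟨-, -, -, -, hR5⟩ := hR.2.2.2 hna hcen
      have hxR : (x₀ : K) ∈ ⁅(P : Subgroup K), zpowers (n : K)⁆ := by
        refine hR5 ?_
        have := mem_map_of_mem (P : Subgroup K).subtype hxc
        rwa [_root_.commutator_def, map_commutator, ← MonoidHom.range_eq_map, range_subtype] at this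
      have hxC : (x₀ : K) ∈ centralizer (zpowers (n : K) : Set K) := by
        have h1 : (n : K) ∈ centralizer ({(x₀ : K)} : Set K) := by
          rw [mem_centralizer_singleton_iff]
          exact mul_inv_eq_iff_eq_mul.1 (hfixx n ((mem_normalizer_iff.1 n.2 _).1 x₀.2))
        rw [mem_centralizer_iff]
        intro y hy
        exact mem_centralizer_singleton_iff.1 (zpowers_le.2 h1 hy)
      have hmem : (x₀ : K) ∈ ⁅(P : Subgroup K), zpowers (n : K)⁆ ⊓
          ((P : Subgroup K) ⊓ centralizer (zpowers (n : K) : Set K)) := ⟨hxR, x₀.2, hxC⟩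
      rw [hR.2.2.1, mem_bot] at hmem
      exact hx₀1 (Subtype.ext (by simpa using hmem))
  exact (hS ▸ mem_top n : n ∈ S)

/-- A nonmetacyclic group of order `p ^ 3`. -/
theorem cube {P : Type*} [Group P] [Finite P] (hcard : Nat.card P = p ^ 3)
    (hm : ¬ Cfsg.IsMetacyclic P) (hab : ¬ IsMulCommutative P) :
    Cfsg.IsExtraspecial p P ∧ ∀ y : P, y ^ p = 1 := by
  have hP : IsPGroup p P := IsPGroup.of_card hcard
  have hexp : ∀ y : P, y ^ p = 1 := by
    intro y
    by_contra hy
    refine hm ?_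
    obtain ⟨k, hk⟩ := IsPGroup.iff_orderOf.1 hP y
    have hk3 : k ≤ 3 := by
      have := hcard ▸ hk ▸ orderOf_dvd_natCard y
      exact (Nat.pow_dvd_pow_iff_le_right hp.out.one_lt).1 this
    have hk2 : 2 ≤ k := by
      by_contra hlt
      exact hy (orderOf_dvd_iff_pow_eq_one.1 (hk ▸ (pow_dvd_pow p (by omega : k ≤ 1)).trans (pow_one p).dvd))
    haveI : IsCyclic (zpowers y) := inferInstance
    rcases hk2.eq_or_lt with h2 | h3
    · have hidx : (zpowers y).index = p := by
        have h := (zpowers y).card_mul_index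
        rw [Nat.card_zpowers, hk, ← h2, hcard, pow_succ p 2] at h
        exact Nat.eq_of_mul_eq_mul_left (pow_pos hp.out.pos 2) h
      haveI := hP.isNilpotent
      haveI hn : (zpowers y).Normal := Subgroup.normal_of_index_eq_minFac_card (by
        rw [hidx, hcard, Nat.pow_minFac (by omega), hp.out.minFac_eq])
      exact ⟨zpowers y, hn, inferInstance, isCyclic_of_prime_card hidx⟩
    · exfalso
      refine hab ?_
      have htop : zpowers y = ⊤ := eq_top_of_card_eq _ (by
        rw [Nat.card_zpowers, hk, hcard, show k = 3 by omega])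
      haveI : IsCyclic P := isCyclic_iff_exists_zpowers_eq_top.2 ⟨y, htop⟩
      exact IsCyclic.isMulCommutative
  obtain ⟨m, hm1, hmq, hmc⟩ := CfsgLib.MaxClass.card_center_quotient hcard (by omega)
  have hm2 : m = 2 := by
    by_contra h
    exact hab (CfsgLib.MaxClass.abelian_of_center_quotient_le (p := p) (X := P) (by omega) hmq)
  subst hm2
  rw [show 3 - 2 = 1 from rfl, pow_one] at hmc
  have hcomm : commutator P = center P := by
    haveI := IsPGroup.isMulCommutative_of_card_eq_prime_sq hmq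
    have hle : commutator P ≤ center P :=
      Subgroup.Normal.quotient_commutative_iff_commutator_le.1 inferInstance
    rcases (Nat.dvd_prime hp.out).1 (hmc ▸ card_dvd_of_le hle) with h | h
    · exfalso
      refine hab ⟨⟨fun a b => ?_⟩⟩
      rw [← commutatorElement_eq_one_iff_mul_comm, ← mem_bot, ← eq_bot_of_card_eq _ h]
      exact commutator_mem_commutator (mem_top a) (mem_top b)
    · exact eq_of_le_of_card_ge hle (by rw [h, hmc])
  refine ⟨⟨⟨hP, le_antisymm ?_ (hcomm.ge.trans (CfsgLib.PGroup.commutator_le_frattini hP)), hcomm⟩, hmc⟩, hexp⟩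
  refine CfsgLib.PGroup.frattini_le_of (p := p) _ hcomm.le fun x => ?_
  rw [hexp x]; exact one_mem _

theorem main (hperf : commutator K = ⊤) (P : Sylow p K) (hp2 : p ≠ 2) (hrk : Cfsg.PRankLE p 2 K)
    (x₀ : ↥(P : Subgroup K)) (hx₀p : orderOf x₀ = p)
    (hfixx : ∀ g : K, g * (x₀ : K) * g⁻¹ ∈ (P : Subgroup K) → g * (x₀ : K) * g⁻¹ = x₀) :
    (Cfsg.IsExtraspecial p ↥(P : Subgroup K) ∧ Nat.card (P : Subgroup K) = p ^ 3 ∧
        ∀ y ∈ (P : Subgroup K), y ^ p = 1) ∨
      (p = 3 ∧ ∃ k : ℕ, 2 ≤ k ∧ Nat.card (P : Subgroup K) = 3 ^ (2 * k + 1) ∧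
        ∃ _ : Group.IsNilpotent ↥(P : Subgroup K), Group.nilpotencyClass ↥(P : Subgroup K) = 2 * k) := by
  obtain ⟨n, hn⟩ := IsPGroup.iff_card.1 P.2
  have hrkP := pRankLE_subgroup hrk (P : Subgroup K)
  have hnm := not_metacyclic hperf P hp2 hx₀p hfixx
  have hx₀c : x₀ ∈ center ↥(P : Subgroup K) := by
    rw [mem_center_iff]
    intro a
    exact Subtype.ext (mul_inv_eq_iff_eq_mul.1
      (hfixx a (mul_mem (mul_mem a.2 x₀.2) (inv_mem a.2))))
  have hxc := mem_commutator_of_fixed hperf P hx₀p hfixx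
  have hna : ¬ IsMulCommutative ↥(P : Subgroup K) := fun hc => by
    have hb : commutator ↥(P : Subgroup K) = ⊥ := by
      rw [eq_bot_iff, _root_.commutator_def, commutator_le]
      intro a _ b _
      rw [mem_bot, commutatorElement_eq_one_iff_mul_comm]
      exact hc.is_comm.comm a b
    rw [hb, mem_bot] at hxc
    rw [hxc, orderOf_one] at hx₀p
    exact hp.out.ne_one hx₀p.symm
  have hcube : n = 3 → (Cfsg.IsExtraspecial p ↥(P : Subgroup K) ∧ Nat.card (P : Subgroup K) = p ^ 3 ∧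
      ∀ y ∈ (P : Subgroup K), y ^ p = 1) := by
    rintro rfl
    obtain ⟨h1, h2⟩ := cube hn hnm hna
    exact ⟨h1, hn, fun y hy => by simpa using congrArg Subtype.val (h2 ⟨y, hy⟩)⟩
  have hn3 : 3 ≤ n := by
    by_contra h
    refine hna ?_
    interval_cases n
    · haveI := (Nat.card_eq_one_iff_unique.1 (show Nat.card ↥(P : Subgroup K) = 1 by rw [hn, pow_zero])).1
      exact ⟨⟨fun a b => Subsingleton.elim _ _⟩⟩
    · haveI : IsCyclic ↥(P : Subgroup K) := isCyclic_of_prime_card (p := p) (by simpa using hn)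
      exact IsCyclic.isMulCommutative
    · exact IsPGroup.isMulCommutative_of_card_eq_prime_sq hn
  rcases Cfsg.Agent.S3888.result hp2 n hn hrkP with hm | ⟨h3, x, y, z, hgen, hx, hy, hz, hxz, hyz, hrel⟩ |
      ⟨h4, s, x, y, z, hs, hgen, hx, hy, hz, hyz, hrel, hrel'⟩ | ⟨rfl, h2, hlcs⟩
  · exact absurd hm hnm
  · refine Or.inl (hcube ?_)
    by_contra hne
    exact not_stuck hperf P hp2 hfixx
      (presTwo_stuck hp2 hn (by omega) hgen hx hy hz hxz hyz hrel hx₀c hx₀p)
  · exact absurd (presThree_stuck hn hrkP h4 hs hgen hx hy hz hyz hrel hrel' hx₀c hx₀p)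
      (not_stuck hperf P hp2 hfixx)
  · by_cases h3 : n = 3
    · exact Or.inl (hcube h3)
    have hcl := class_eq hn h2 hlcs
    have hodd : ¬ Even n := fun he => not_stuck hperf P hp2 hfixx
      (maxClass_stuck hn (by omega) he hcl hrkP hx₀c hx₀p)
    rw [Nat.not_even_iff_odd] at hodd
    obtain ⟨k, hk⟩ := hodd
    refine Or.inr ⟨rfl, k, by omega, by rw [hn, hk], P.2.isNilpotent, ?_⟩
    rw [hcl, hk]; omega

end CfsgLib.LocalEvenSix.IsoRankTwo
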