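import Cfsg.Agent.Lib.LocalEvenSix.IsoRankTwo.Pres
import Cfsg.Agent.Lib.PLocal.NormalSq
import Cfsg.Agent.S3888
import Cfsg.Agent.Lib.H82.HallPetrescu

/-!
# `3`-groups of maximal class and rank two: parity of the order
-/

set_option autoImplicit false
set_option linter.unusedSectionVars false

namespace CfsgLib.LocalEvenSix.IsoRankTwo

open Subgroup
open scoped commutatorElement

variable {P : Type*} [Group P] [Finite P]

local notation "γ" => Subgroup.lowerCentralSeries (⊤ : Subgroup P)

/-- An element fixing `t` modulo a stable normal subgroup: composition. -/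
theorem fix_mul {M : Subgroup P} {a b : MulAut P} (ha : ∀ m ∈ M, a m ∈ M) {t : P}
    (h1 : a t * t⁻¹ ∈ M) (h2 : b t * t⁻¹ ∈ M) : (a * b) t * t⁻¹ ∈ M := by
  have := mul_mem (ha _ h2) h1
  rw [map_mul, map_inv] at this
  simpa [mul_assoc] using this

theorem exists_normal_sq [Fact (Nat.Prime 3)] {n : ℕ} (hcard : Nat.card P = 3 ^ n) (hnc : ¬ IsCyclic P) :
    ∃ U : Subgroup P, U.Normal ∧ Cfsg.IsElementaryAbelian 3 U ∧ Nat.card U = 3 ^ 2 := by
  have hP : IsPGroup 3 P := IsPGroup.of_card hcard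
  have hne : (⊤ : Subgroup P) ≠ ⊥ := by
    intro h
    haveI : Subsingleton P := ⟨fun a b => by
      have ha : a ∈ (⊥ : Subgroup P) := h ▸ mem_top a
      have hb : b ∈ (⊥ : Subgroup P) := h ▸ mem_top b
      rw [mem_bot.1 ha, mem_bot.1 hb]⟩
    exact hnc isCyclic_of_subsingleton
  obtain ⟨Z0, -, hZ0c, hZ0⟩ := CfsgLib.OddOrder41.exists_central_order_p hP (⊤ : Subgroup P) hne
  haveI : Z0.Normal := ⟨fun z hz g => by
    rw [Subgroup.mem_center_iff.1 (hZ0c hz) g]; simpa using hz⟩
  have hpow : ∀ a ∈ Z0, a ^ 3 = 1 := fun a ha => by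
    have := pow_card_eq_one' (x := (⟨a, ha⟩ : Z0))
    rw [hZ0] at this
    exact congrArg Subtype.val this
  obtain ⟨x₀, hx₀p, hx₀⟩ : ∃ x₀ : P, x₀ ^ 3 = 1 ∧ x₀ ∉ Z0 := by
    by_contra! hall
    refine hnc (CfsgLib.ConstStab.isCyclic_of_unique_prime_subgroup (by norm_num) hP fun x y hx1 hx hy => ?_)
    have hle : Subgroup.zpowers x ≤ Z0 := Subgroup.zpowers_le.2 (hall x hx)
    have := Subgroup.eq_of_le_of_card_ge hle (by rw [Nat.card_zpowers, orderOf_eq_prime hx hx1, hZ0])
    exact this ▸ hall y hy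
  obtain ⟨U, -, hUn, hUel, hUc⟩ := CfsgLib.PLocal.exists_normal_elementary_sq_le (by norm_num) hP Z0
    ⟨⟨⟨fun a b => Subtype.ext (Subgroup.mem_center_iff.1 (hZ0c b.2) a)⟩⟩, hpow⟩
    ⊤ le_top hZ0 x₀ (Subgroup.mem_top _)
    (mem_centralizer_iff.2 fun z hz => (mem_center_iff.1 (hZ0c hz) x₀).symm) hx₀p hx₀
  exact ⟨U, hUn, hUel, hUc⟩

/-- A subgroup of index `3` of a `3`-group of maximal class and rank two is two-generated. -/
theorem index_frattini_maximal [Fact (Nat.Prime 3)] {n : ℕ} (hcard : Nat.card P = 3 ^ n) (hn : 5 ≤ n)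
    (hcl : Group.nilpotencyClass P = n - 1) (hrk : Cfsg.PRankLE 3 2 P) (W : Subgroup P) [W.Normal]
    (hW : W.index = 3) : (frattini ↥W).index ≤ 3 ^ 2 := by
  have hWc : Nat.card W = 3 ^ (n - 1) := by
    have h := W.card_mul_index
    rw [hW, hcard, show n = n - 1 + 1 by omega, pow_succ] at h
    exact Nat.eq_of_mul_eq_mul_right (by norm_num) h
  have hWp : IsPGroup 3 W := IsPGroup.of_card hWc
  haveI := (IsPGroup.of_card hcard).isNilpotent
  rcases Cfsg.Agent.S3888.result (G := ↥W) (p := 3) (by norm_num) (n - 1) hWc (pRankLE_subgroup hrk W)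
    with hm | ⟨h3, x, y, z, hgen, hx, hy, hz, hxz, hyz, hrel⟩ |
      ⟨h4, s, x, y, z, hs, hgen, hx, hy, hz, hyz, hrel, hrel'⟩ | ⟨-, h2, hlcs⟩
  · exact index_frattini_le_of_metacyclic hWp hm
  · exfalso
    obtain ⟨hord, hcen, -, -⟩ := presTwo hWc h3 hgen hx hy hz hxz hyz hrel
    set C := (center ↥W).map W.subtype
    haveI : C.Normal := inferInstance
    have hCc : Nat.card C = 3 ^ (n - 3) := by
      rw [card_map_of_injective W.subtype_injective, hcen, Nat.card_zpowers, hord]
      congr 1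
    have hCi : C.index = 3 ^ 3 := by
      have h := C.card_mul_index
      rw [hCc, hcard, show n = n - 3 + 3 by omega, pow_add] at h
      exact Nat.eq_of_mul_eq_mul_left (pow_pos (by norm_num : 0 < 3) _) h
    have hU := (Cfsg.Agent.S0662.result n hcard hcl (by omega)).1
    have hCeq := hU C 3 (by norm_num) hCi
    obtain ⟨U, hUn, hUel, hUc⟩ := exists_normal_sq hcard (fun hc => by
      haveI := hc
      have := Group.IsNilpotent.nilpotencyClass_le_one_iff.mpr
        (IsCyclic.isMulCommutative : IsMulCommutative P)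
      omega)
    have hUi : U.index = 3 ^ (n - 2) := by
      have h := U.card_mul_index
      rw [hUc, hcard, show n = 2 + (n - 2) by omega, pow_add] at h
      exact Nat.eq_of_mul_eq_mul_left (pow_pos (by norm_num : 0 < 3) _) h
    have hUeq := hU U (n - 2) (by omega) hUi
    have hle : U ≤ C := by
      rw [hUeq, hCeq]
      exact Subgroup.lowerCentralSeries_antitone _ (by omega)
    haveI : IsCyclic C := by
      haveI : IsCyclic (center ↥W) := hcen ▸ inferInstance
      exact isCyclic_of_surjective _ (W.subtype.subgroupMap_surjective (center ↥W))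
    haveI : IsCyclic U := isCyclic_of_injective _ (Subgroup.inclusion_injective hle)
    obtain ⟨g, hg⟩ := IsCyclic.exists_generator (α := U)
    have h1 : orderOf g = 3 ^ 2 := by rw [← hUc]; exact orderOf_eq_card_of_forall_mem_zpowers hg
    have h2 : g ^ 3 = 1 := Subtype.ext (by simpa using hUel.2 g g.2)
    have := Nat.le_of_dvd (by norm_num) (h1 ▸ orderOf_dvd_of_pow_eq_one h2)
    norm_num at this
  · refine index_frattini_le_of_two hWp x z (top_le_iff.1 (le_trans ?_ le_sup_left))
    rw [← hgen, closure_le]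
    rintro u (rfl | rfl | rfl)
    · exact subset_closure (by simp)
    · have e : u = x⁻¹ * z * x * z⁻¹ := by rw [hrel']; group
      rw [e]
      exact mul_mem (mul_mem (mul_mem (inv_mem (subset_closure (by simp))) (subset_closure (by simp)))
        (subset_closure (by simp))) (inv_mem (subset_closure (by simp)))
    · exact subset_closure (by simp)
  · have hc := Cfsg.Agent.S0662.lcs_card (G := ↥W) hWc (class_eq hWc h2 hlcs) (by omega) 1 le_rfl (by omega)
    rw [Subgroup.top_lowerCentralSeries_one] at hc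
    refine Nat.le_of_dvd (by norm_num) (dvd_trans (index_dvd_of_le (CfsgLib.PGroup.commutator_le_frattini hWp)) ?_)
    have h := (commutator ↥W).card_mul_index
    rw [hc, hWc, show n - 1 = n - 1 - 1 - 1 + 2 by omega, pow_add] at h
    exact (Nat.eq_of_mul_eq_mul_left (pow_pos (by norm_num : 0 < 3) _) h).dvd

theorem maxClass_stuck [Fact (Nat.Prime 3)] {n : ℕ} (hcard : Nat.card P = 3 ^ n) (hn : 4 ≤ n)
    (heven : Even n) (hcl : Group.nilpotencyClass P = n - 1) (hrk : Cfsg.PRankLE 3 2 P) {x₀ : P}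
    (hx₀ : x₀ ∈ center P) (hx₀p : orderOf x₀ = 3) : Stuck P x₀ := by
  have hP : IsPGroup 3 P := IsPGroup.of_card hcard
  haveI := hP.isNilpotent
  have hU0 := (Cfsg.Agent.S0662.result n hcard hcl (by omega)).1
  have hc := Cfsg.Agent.S0662.lcs_card hcard hcl (by omega)
  have hidx : ∀ (N : Subgroup P) (e : ℕ), e ≤ n → Nat.card N = 3 ^ e → N.index = 3 ^ (n - e) := by
    intro N e he hN
    have h := N.card_mul_index
    rw [hN, hcard, show n = e + (n - e) by omega, pow_add] at h
    exact Nat.eq_of_mul_eq_mul_left (pow_pos (by norm_num : 0 < 3) _) h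
  have hnc : ¬ IsCyclic P := fun hc' => by
    haveI := hc'
    have := Group.IsNilpotent.nilpotencyClass_le_one_iff.mpr
      (IsCyclic.isMulCommutative : IsMulCommutative P)
    omega
  have hcenc : Nat.card (center P) = 3 := (CfsgLib.MaxClass.center_of_class hcard (by omega) hcl).1
  have hcen : center P = zpowers x₀ := (eq_of_le_of_card_ge (zpowers_le.2 hx₀)
    (by rw [Nat.card_zpowers, hx₀p, hcenc])).symm
  have hlast : γ (n - 2) = center P := by
    have := hU0 (center P) (n - 1) (by omega) (hidx _ 1 (by omega) (by rw [hcenc, pow_one]))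
    rw [show n - 1 - 1 = n - 2 by omega] at this
    exact this.symm
  have hbot : γ (n - 1) = ⊥ :=
    Subgroup.lowerCentralSeries_eq_bot_iff_nilpotencyClass_le.2 hcl.le
  -- the Frattini subgroup
  have hΦ : frattini P = γ 1 := by
    have hle : γ 1 ≤ frattini P := by
      rw [Subgroup.top_lowerCentralSeries_one]; exact CfsgLib.PGroup.commutator_le_frattini hP
    refine (eq_of_le_of_card_ge hle ?_).symm
    obtain ⟨e, he⟩ := IsPGroup.iff_card.1 (hP.to_subgroup (frattini P))
    rw [he, hc 1 le_rfl (by omega)]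
    refine Nat.pow_le_pow_right (by norm_num) ?_
    by_contra hlt
    have hen : e ≤ n := (Nat.pow_dvd_pow_iff_le_right (by norm_num : 1 < 3)).1
      (he ▸ hcard ▸ card_subgroup_dvd_card _)
    have hi := hidx _ e hen he
    refine hnc ?_
    -- index at most `3`: cyclic
    obtain ⟨a, ha⟩ : ∃ a, closure ({a} : Set P) ⊔ frattini P = ⊤ := by
      rcases Nat.lt_or_ge (n - e) 1 with h0 | h1
      · refine ⟨1, top_le_iff.1 (le_trans ?_ le_sup_right)⟩
        rw [show n - e = 0 by omega, pow_zero, index_eq_one] at hi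
        exact hi.ge
      · obtain ⟨a, ha⟩ : ∃ a, a ∉ frattini P := by
          by_contra! hall
          have h2 : (frattini P).index = 1 := index_eq_one.2 (eq_top_iff.2 fun g _ => hall g)
          rw [hi, Nat.pow_eq_one] at h2
          omega
        refine ⟨a, index_eq_one.1 ?_⟩
        have hd := index_dvd_of_le (le_sup_right : frattini P ≤ closure ({a} : Set P) ⊔ frattini P)
        rw [hi, show n - e = 1 by omega, pow_one] at hd
        rcases (Nat.dvd_prime (by norm_num)).1 hd with h | h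
        · exact h
        · exfalso
          refine ha ?_
          have e' : frattini P = closure ({a} : Set P) ⊔ frattini P := by
            refine eq_of_le_of_card_ge le_sup_right ?_
            have h1 := (frattini P).card_mul_index
            have h2 := (closure ({a} : Set P) ⊔ frattini P).card_mul_index
            rw [hi, show n - e = 1 by omega, pow_one] at h1
            rw [h] at h2
            omega
          rw [e']; exact mem_sup_left (subset_closure rfl)
    have := frattini_nongenerating ha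
    rw [← zpowers_eq_closure] at this
    exact isCyclic_iff_exists_zpowers_eq_top.2 ⟨a, this⟩
  -- `W` and its centralizer
  obtain ⟨U, hUn, hUel, hUc⟩ := exists_normal_sq hcard hnc
  have hUγ : U = γ (n - 3) := by
    have := hU0 U (n - 2) (by omega) (hidx _ 2 (by omega) hUc)
    rwa [show n - 2 - 1 = n - 3 by omega] at this
  haveI := hUn
  have hZU : center P ≤ U := by
    rw [hUγ, ← hlast]; exact Subgroup.lowerCentralSeries_antitone _ (by omega)
  obtain ⟨w, hwU, hwZ⟩ : ∃ w ∈ U, w ∉ center P := by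
    by_contra! hall
    have := card_le_of_le (show U ≤ center P from hall)
    rw [hUc, hcenc] at this; norm_num at this
  have hUle : U ≤ zpowers w ⊔ center P := by
    have hle : zpowers w ⊔ center P ≤ U := sup_le (zpowers_le.2 hwU) hZU
    refine (eq_of_le_of_card_ge hle ?_).ge
    have hlt : center P < zpowers w ⊔ center P :=
      lt_of_le_of_ne le_sup_right fun e => hwZ (e ▸ mem_sup_left (mem_zpowers w))
    obtain ⟨e, he⟩ := IsPGroup.iff_card.1 (hP.to_subgroup (zpowers w ⊔ center P))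
    rw [hUc, he]
    refine Nat.pow_le_pow_right (by norm_num) ?_
    by_contra hlt2
    refine hlt.ne (eq_of_le_of_card_ge hlt.le ?_)
    rw [he, hcenc]
    calc 3 ^ e ≤ 3 ^ 1 := Nat.pow_le_pow_right (by norm_num) (by omega)
      _ = 3 := pow_one 3
  set P₁ := centralizer (U : Set P) with hP₁
  haveI : P₁.Normal := inferInstance
  have hcomm : ∀ g, ⁅g, w⁆ ∈ center P := fun g => by
    rw [← hlast, show n - 2 = n - 3 + 1 by omega, Subgroup.lowerCentralSeries_succ, commutator_comm, ← hUγ]
    exact commutator_mem_commutator (mem_top g) hwU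
  let χ : P →* center P :=
    { toFun := fun g => ⟨⁅g, w⁆, hcomm g⟩
      map_one' := Subtype.ext (by simp)
      map_mul' := fun a b => Subtype.ext (by
        show ⁅a * b, w⁆ = ⁅a, w⁆ * ⁅b, w⁆
        exact CfsgLib.PGroup.commutatorElement_mul_left_of_central a b w (hcomm b)) }
  have hker : χ.ker = P₁ := by
    ext g
    rw [MonoidHom.mem_ker, ← OneMemClass.coe_eq_one, hP₁, mem_centralizer_iff]
    show ⁅g, w⁆ = 1 ↔ _
    rw [commutatorElement_eq_one_iff_mul_comm]
    refine ⟨fun h u hu => ?_, fun h => (h w hwU).symm⟩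
    have hle : zpowers w ⊔ center P ≤ centralizer ({g} : Set P) :=
      sup_le (zpowers_le.2 (mem_centralizer_singleton_iff.2 h.symm))
        fun c hc => mem_centralizer_singleton_iff.2 (mem_center_iff.1 hc g).symm
    exact mem_centralizer_singleton_iff.1 (hle (hUle hu))
  have hP₁i : P₁.index = 3 := by
    have hd : P₁.index ∣ 3 := by
      rw [← hker, index_ker, ← hcenc]
      exact card_subgroup_dvd_card _
    rcases (Nat.dvd_prime (by norm_num)).1 hd with h | h
    · exfalso
      rw [index_eq_one] at h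
      refine hwZ (mem_center_iff.2 fun g => ?_)
      exact ((mem_centralizer_iff.1 (h ▸ mem_top g : g ∈ P₁)) w hwU).symm
    · exact h
  have hγP₁ : γ 1 ≤ P₁ := by
    rw [Subgroup.top_lowerCentralSeries_one]
    haveI : IsCyclic (P ⧸ P₁) := isCyclic_of_prime_card (p := 3) hP₁i
    exact Subgroup.Normal.quotient_commutative_iff_commutator_le.1 IsCyclic.isMulCommutative
  have hγi : (γ 1).index = 9 := by
    rw [hidx _ (n - 2) (by omega) (by rw [hc 1 le_rfl (by omega)]; congr 1), show n - (n - 2) = 2 by omega]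
    norm_num
  obtain ⟨t, htP, htγ⟩ : ∃ t ∈ P₁, t ∉ γ 1 := by
    by_contra! hall
    have := index_dvd_of_le (show P₁ ≤ γ 1 from hall)
    rw [hγi, hP₁i] at this
    norm_num at this
  obtain ⟨s, hs⟩ : ∃ s, s ∉ P₁ := by
    by_contra! hall
    rw [index_eq_one.2 (eq_top_iff.2 fun g _ => hall g)] at hP₁i
    norm_num at hP₁i
  have hcube : ∀ g : P, g ^ 3 ∈ γ 1 := fun g => hΦ ▸ CfsgLib.PGroup.pow_mem_frattini hP g
  have hzt : zpowers t ⊔ γ 1 = P₁ := by
    refine eq_of_le_of_card_ge (sup_le (zpowers_le.2 htP) hγP₁) ?_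
    have hlt : γ 1 < zpowers t ⊔ γ 1 :=
      lt_of_le_of_ne le_sup_right fun e => htγ (e ▸ mem_sup_left (mem_zpowers t))
    obtain ⟨e, he⟩ := IsPGroup.iff_card.1 (hP.to_subgroup (zpowers t ⊔ γ 1))
    have h1 := P₁.card_mul_index
    rw [hP₁i, hcard, show n = n - 1 + 1 by omega, pow_succ] at h1
    rw [Nat.eq_of_mul_eq_mul_right (by norm_num) h1, he]
    refine Nat.pow_le_pow_right (by norm_num) ?_
    by_contra hlt2
    refine hlt.ne (eq_of_le_of_card_ge hlt.le ?_)
    rw [he, hc 1 le_rfl (by omega)]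
    exact Nat.pow_le_pow_right (by norm_num) (by omega)
  refine ⟨fun z u M hM => ?_, fun A hA => ?_⟩
  · -- the iterated commutators
    haveI := CfsgLib.PGroup.normal_of_isCoatom hP hM
    have hMi := CfsgLib.PGroup.index_of_isCoatom hP hM
    have h2 : step z (step z u) ∈ γ 2 := step_mem_lcs_succ (step_mem_lcs_succ (i := 0) (by simp))
    have hMc : 3 ^ 3 ≤ Nat.card M := by
      have h := M.card_mul_index
      rw [hMi, hcard, show n = n - 1 + 1 by omega, pow_succ] at h
      rw [Nat.eq_of_mul_eq_mul_right (by norm_num) h]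
      exact Nat.pow_le_pow_right (by norm_num) (by omega)
    set F := (frattini ↥M).map M.subtype
    have hFne : F ≠ ⊥ := frattini_map_ne_bot hrk hP hMc
    by_cases h5 : n = 4
    · subst h5
      have hle : γ 2 ≤ F := by
        rw [show (2 : ℕ) = 4 - 2 from rfl, hlast, hcen, zpowers_le]
        exact mem_of_normal_ne_bot hP hFne (fun d hd _ => hcen ▸ hd) hx₀p
      exact hle h2
    obtain ⟨e, he⟩ := IsPGroup.iff_card.1 (hP.to_subgroup F)
    have hen : e ≤ n := (Nat.pow_dvd_pow_iff_le_right (by norm_num : 1 < 3)).1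
      (he ▸ hcard ▸ card_subgroup_dvd_card _)
    have hFi : F.index = 3 ^ (n - e) := hidx _ e hen he
    have hFi' : F.index = (frattini ↥M).index * 3 := by
      rw [index_map_of_injective _ M.subtype_injective, M.range_subtype, hMi]
    have hle : n - e ≤ 3 := by
      refine (Nat.pow_le_pow_iff_right (by norm_num : 1 < 3)).1 ?_
      rw [← hFi, hFi', pow_succ]
      exact Nat.mul_le_mul_right 3 (index_frattini_maximal hcard (by omega) hcl hrk M hMi)
    have hge : 2 ≤ n - e := by
      by_contra hlt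
      have h1 : (frattini ↥M).index * 3 ≤ 3 ^ 1 := by
        rw [← hFi', hFi]; exact Nat.pow_le_pow_right (by norm_num) (by omega)
      haveI : Nontrivial M := by
        rw [nontrivial_iff_ne_bot]
        intro hb
        rw [hb, card_bot] at hMc
        norm_num at hMc
      have h3 : (frattini ↥M).index ≠ 1 := fun h =>
        CfsgLib.PGroup.frattini_ne_top (P := ↥M) (index_eq_one.1 h)
      have h4 : (frattini ↥M).index ≠ 0 := index_ne_zero_of_finite
      omega
    have hFγ := hU0 F (n - e) hge hFi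
    rw [hFγ]
    exact Subgroup.lowerCentralSeries_antitone _ (by omega) h2
  -- the automorphisms
  have hAγ : ∀ (φ : MulAut P) (i : ℕ) (m : P), m ∈ γ i → φ m ∈ γ i := fun φ i m hm => by
    have := mem_map_of_mem φ.toMonoidHom hm
    rwa [characteristic_iff_map_eq.1 (inferInstance : (γ i).Characteristic) φ] at this
  have hAP : ∀ (φ : MulAut P) (m : P), m ∈ P₁ → φ m ∈ P₁ := fun φ m hm => by
    rw [hP₁, mem_centralizer_iff] at hm ⊢
    intro u hu
    rw [hUγ] at hu hm
    obtain ⟨u, rfl⟩ := φ.surjective u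
    have : u ∈ γ (n - 3) := by
      have := hAγ φ.symm _ _ hu
      simpa using this
    rw [← map_mul, ← map_mul, hm u this]
  by_cases hK2 : ∀ φ ∈ A, φ t * t⁻¹ ∈ γ 1
  · exact ⟨γ 1, inferInstance, hΦ.le, t, htγ, hK2⟩
  by_cases hK1 : ∀ φ ∈ A, φ s * s⁻¹ ∈ P₁
  · exact ⟨P₁, inferInstance, hΦ.le.trans hγP₁, s, hs, hK1⟩
  exfalso
  obtain ⟨φ, hφA, hφt, hφs⟩ : ∃ φ ∈ A, ¬ φ t * t⁻¹ ∈ γ 1 ∧ ¬ φ s * s⁻¹ ∈ P₁ := by
    push Not at hK1 hK2
    obtain ⟨a, ha, hat⟩ := hK2
    obtain ⟨b, hb, hbs⟩ := hK1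
    by_cases has : a s * s⁻¹ ∈ P₁
    · by_cases hbt : b t * t⁻¹ ∈ γ 1
      · refine ⟨a * b, mul_mem ha hb, fun h => hat ?_, fun h => hbs ?_⟩
        · have h' := mul_mem h (inv_mem (hAγ a 1 _ hbt))
          rw [map_mul, map_inv] at h'
          have h'' : (a * b) t * t⁻¹ * (a t * (a (b t))⁻¹) ∈ γ 1 := by simpa using h'
          have hn : (γ 1).Normal := inferInstance
          have := hn.mem_comm h''
          simpa [mul_assoc] using this
        · have h' := mul_mem h (inv_mem has)
          have h'' : a (b s * s⁻¹) ∈ P₁ := by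
            rw [map_mul, map_inv]
            simpa [mul_assoc] using h'
          simpa using hAP a.symm _ h''
      · exact ⟨b, hb, hbt, hbs⟩
    · exact ⟨a, ha, hat, has⟩
  haveI hγn : (γ 1).Normal := inferInstance
  set π := QuotientGroup.mk' (γ 1)
  have hπc : ∀ a b : P ⧸ γ 1, a * b = b * a := by
    intro a b
    obtain ⟨a, rfl⟩ := QuotientGroup.mk'_surjective _ a
    obtain ⟨b, rfl⟩ := QuotientGroup.mk'_surjective _ b
    rw [← commutatorElement_eq_one_iff_mul_comm, ← map_commutatorElement]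
    refine (QuotientGroup.eq_one_iff _).2 ?_
    rw [Subgroup.top_lowerCentralSeries_one]
    exact commutator_mem_commutator (mem_top a) (mem_top b)
  have hπ3 : ∀ g : P, (π g) ^ 3 = 1 := fun g => by
    rw [← map_pow]; exact (QuotientGroup.eq_one_iff _).2 (hcube g)
  have hπφ : ∀ g g' : P, π g = π g' → π (φ g) = π (φ g') := by
    intro g g' h
    refine QuotientGroup.eq.2 ?_
    rw [← map_inv, ← map_mul]
    exact hAγ φ 1 _ (QuotientGroup.eq.1 h)
  -- `φ` inverts `t`
  have ht' : π (φ t) = (π t)⁻¹ := by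
    obtain ⟨u, hu, g, hg, hug⟩ := CfsgLib.Coprime.exists_mul_of_mem_sup
      (le_top.trans (normalizer_eq_top_iff.2 hγn).ge) (hzt.symm ▸ hAP φ t htP : φ t ∈ zpowers t ⊔ γ 1)
    obtain ⟨i, rfl⟩ := mem_zpowers_iff.1 hu
    have hg' : π g = 1 := (QuotientGroup.eq_one_iff g).2 hg
    have e : π (φ t) = π t ^ i := by rw [hug, map_mul, hg', mul_one, map_zpow]
    have hord : orderOf (π t) = 3 := orderOf_eq_prime (hπ3 t) fun h => htγ ((QuotientGroup.eq_one_iff t).1 h)
    rw [e, ← zpow_mod_orderOf, hord]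
    have h0 : (i % ((3 : ℕ) : ℤ)) = 0 ∨ (i % ((3 : ℕ) : ℤ)) = 1 ∨ (i % ((3 : ℕ) : ℤ)) = 2 := by omega
    rcases h0 with h | h | h
    · exfalso
      have h1 : π (φ t) = 1 := by rw [e, ← zpow_mod_orderOf, hord, h, zpow_zero]
      refine htγ ?_
      have := hAγ φ.symm 1 _ ((QuotientGroup.eq_one_iff (φ t)).1 h1)
      simpa using this
    · exfalso
      have h1 : π (φ t) = π t := by rw [e, ← zpow_mod_orderOf, hord, h, zpow_one]
      refine hφt ((QuotientGroup.eq_one_iff _).1 ?_)
      show π (φ t * t⁻¹) = 1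
      rw [map_mul, h1, map_inv, mul_inv_cancel]
    · rw [h]
      refine eq_inv_of_mul_eq_one_left ?_
      rw [← zpow_add_one, show (2 : ℤ) + 1 = ((3 : ℕ) : ℤ) by norm_num, zpow_natCast, hπ3]
  -- and `s` modulo `P₁`
  have hs' : φ s * s ∈ P₁ := by
    have hq : ∀ a b : P ⧸ P₁, a ≠ 1 → b ≠ 1 → b ≠ a → b * a = 1 := by
      intro a b ha hb hab
      have hcard3 : Nat.card (P ⧸ P₁) = 3 := hP₁i
      have hmem : b ∈ zpowers a := mem_zpowers_of_prime_card hcard3 ha
      obtain ⟨i, rfl⟩ := mem_zpowers_iff.1 hmem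
      have hord : orderOf a = 3 := orderOf_eq_prime (by
        have := pow_card_eq_one' (x := a); rwa [hcard3] at this) ha
      rw [← zpow_mod_orderOf, hord] at hb hab ⊢
      have h0 : (i % ((3 : ℕ) : ℤ)) = 0 ∨ (i % ((3 : ℕ) : ℤ)) = 1 ∨ (i % ((3 : ℕ) : ℤ)) = 2 := by omega
      rcases h0 with h | h | h <;> rw [h] at hb hab ⊢
      · exact absurd (zpow_zero a) hb
      · exact absurd (zpow_one a) hab
      · rw [← zpow_add_one, show (2 : ℤ) + 1 = ((3 : ℕ) : ℤ) by norm_num, zpow_natCast, ← hord,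
          pow_orderOf_eq_one]
    refine (QuotientGroup.eq_one_iff _).1 ?_
    show QuotientGroup.mk' P₁ (φ s * s) = 1
    rw [map_mul]
    refine hq _ _ (fun h => hs ((QuotientGroup.eq_one_iff s).1 h)) (fun h => hs ?_) fun h => hφs ?_
    · have := hAP φ.symm _ ((QuotientGroup.eq_one_iff (φ s)).1 h)
      simpa using this
    · refine (QuotientGroup.eq_one_iff _).1 ?_
      show QuotientGroup.mk' P₁ (φ s * s⁻¹) = 1
      rw [map_mul, h, map_inv, mul_inv_cancel]
  -- `φ ^ 3` inverts everything modulo `γ 1`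
  set ψ := φ * φ * φ with hψ
  have hψA : ψ ∈ A := mul_mem (mul_mem hφA hφA) hφA
  obtain ⟨j, hj⟩ : ∃ j : ℤ, π (φ s) = (π s)⁻¹ * π t ^ j := by
    obtain ⟨u, hu, g, hg, hug⟩ := CfsgLib.Coprime.exists_mul_of_mem_sup
      (le_top.trans (normalizer_eq_top_iff.2 hγn).ge) (hzt.symm ▸ hs' : φ s * s ∈ zpowers t ⊔ γ 1)
    obtain ⟨i, rfl⟩ := mem_zpowers_iff.1 hu
    refine ⟨i, ?_⟩
    have h := congrArg π hug
    rw [map_mul, map_mul, show π g = 1 from (QuotientGroup.eq_one_iff g).2 hg, map_zpow] at h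
    simp only [mul_one] at h
    rw [← h, hπc (π (φ s)), inv_mul_cancel_left]
  have hlin : ∀ (g : P) (a b : ℤ), π g = π s ^ a * π t ^ b → π (φ g) = π s ^ (-a) * π t ^ (a * j - b) := by
    intro g a b h
    rw [← map_zpow, ← map_zpow, ← map_mul] at h
    rw [hπφ _ _ h, map_mul, map_zpow φ, map_zpow φ, map_mul, map_zpow π, map_zpow π, hj, ht',
      (Commute.mul_zpow (show Commute (π s)⁻¹ (π t ^ j) from hπc _ _)), mul_assoc]
    congr 1
    · rw [inv_zpow, zpow_neg]
    · rw [← zpow_mul, inv_zpow', ← zpow_add]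
      congr 1
      ring
  have hψs : π (ψ s) = (π s)⁻¹ := by
    have h1 := hlin s 1 0 (by rw [zpow_one, zpow_zero, mul_one])
    have h2 := hlin (φ s) _ _ h1
    have h3 := hlin (φ (φ s)) _ _ h2
    show π (φ (φ (φ s))) = _
    rw [h3]
    have : π t ^ ((- -(1 : ℤ)) * j - ((-1) * j - (1 * j - 0))) = 1 := by
      rw [show (- -(1 : ℤ)) * j - ((-1) * j - (1 * j - 0)) = ((3 : ℕ) : ℤ) * j by push_cast; ring,
        zpow_mul, zpow_natCast, hπ3, one_zpow]
    rw [this, mul_one, neg_neg, zpow_neg_one]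
  have hψt : π (ψ t) = (π t)⁻¹ := by
    have h1 := hlin t 0 1 (by rw [zpow_one, zpow_zero, one_mul])
    have h2 := hlin (φ t) _ _ h1
    have h3 := hlin (φ (φ t)) _ _ h2
    show π (φ (φ (φ t))) = _
    rw [h3]
    norm_num [zpow_zero, zpow_neg_one]
  have hψall : ∀ g : P, π (ψ g) = (π g)⁻¹ := by
    have htop : zpowers s ⊔ P₁ = ⊤ := by
      refine index_eq_one.1 ?_
      have hd := index_dvd_of_le (le_sup_right : P₁ ≤ zpowers s ⊔ P₁)
      rw [hP₁i] at hd
      rcases (Nat.dvd_prime (by norm_num)).1 hd with h | h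
      · exact h
      · exfalso
        refine hs ?_
        have e : P₁ = zpowers s ⊔ P₁ := by
          refine eq_of_le_of_card_ge le_sup_right ?_
          have h1 := P₁.card_mul_index
          have h2 := (zpowers s ⊔ P₁).card_mul_index
          rw [hP₁i] at h1
          rw [h] at h2
          omega
        rw [e]; exact mem_sup_left (mem_zpowers s)
    let T : Subgroup P :=
      { carrier := {g | π (ψ g) = (π g)⁻¹}
        one_mem' := by
          show π (ψ 1) = (π 1)⁻¹
          rw [map_one ψ, map_one π, inv_one]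
        mul_mem' := fun {a b} ha hb => by
          show π (ψ (a * b)) = (π (a * b))⁻¹
          rw [map_mul, map_mul, ha, hb, map_mul π a b, mul_inv_rev, hπc]
        inv_mem' := fun {a} ha => by
          show π (ψ a⁻¹) = (π a⁻¹)⁻¹
          rw [map_inv, map_inv, ha, map_inv] }
    have hle : zpowers s ⊔ (zpowers t ⊔ γ 1) ≤ T := by
      refine sup_le (zpowers_le.2 hψs) (sup_le (zpowers_le.2 hψt) fun g hg => ?_)
      show π (ψ g) = (π g)⁻¹
      rw [show π g = 1 from (QuotientGroup.eq_one_iff g).2 hg,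
        show π (ψ g) = 1 from (QuotientGroup.eq_one_iff _).2 (hAγ ψ 1 g hg), inv_one]
    rw [hzt, htop] at hle
    exact fun g => hle (mem_top g)
  -- eigenvalues along the lower central series
  have key : ∀ k, ∀ u ∈ γ k, ψ u * (u ^ ((-1 : ℤ) ^ (k + 1)))⁻¹ ∈ γ (k + 1) := by
    intro k
    induction k with
    | zero =>
      intro u _
      have := (QuotientGroup.eq_one_iff _).1 (show π (ψ u * u) = 1 by rw [map_mul, hψall, inv_mul_cancel])
      simpa using this
    | succ k ih =>
      haveI hn2 : (γ (k + 1 + 1)).Normal := inferInstance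
      set ρ := QuotientGroup.mk' (γ (k + 1 + 1))
      have hcent : ∀ u ∈ γ (k + 1), ∀ g, Commute (ρ g) (ρ u) := by
        intro u hu g
        refine (commutatorElement_eq_one_iff_commute).1 ?_
        rw [← map_commutatorElement]
        refine (QuotientGroup.eq_one_iff _).2 ?_
        rw [Subgroup.lowerCentralSeries_succ _ (k + 1), commutator_comm]
        exact commutator_mem_commutator (mem_top g) hu
      let T : Subgroup P :=
        { carrier := {u | u ∈ γ (k + 1) ∧ ρ (ψ u) = ρ u ^ ((-1 : ℤ) ^ (k + 1 + 1))}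
          one_mem' := ⟨one_mem _, by rw [map_one ψ, map_one ρ, one_zpow]⟩
          mul_mem' := fun {a b} ha hb => ⟨mul_mem ha.1 hb.1, by
            rw [map_mul, map_mul, ha.2, hb.2, map_mul ρ a b, (hcent b hb.1 a).mul_zpow]⟩
          inv_mem' := fun {a} ha => ⟨inv_mem ha.1, by
            rw [map_inv, map_inv, ha.2, map_inv ρ a, inv_zpow]⟩ }
      intro u hu
      have hle : γ (k + 1) ≤ T := by
        rw [Subgroup.lowerCentralSeries_succ, commutator_le]
        intro a ha v _
        have hmem : ⁅a, v⁆ ∈ γ (k + 1) := by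
          rw [Subgroup.lowerCentralSeries_succ]; exact commutator_mem_commutator ha (mem_top v)
        refine ⟨hmem, ?_⟩
        rw [map_commutatorElement, map_commutatorElement, map_commutatorElement]
        have hcz : ∀ c ∈ γ (k + 1), ρ c ∈ center (P ⧸ γ (k + 1 + 1)) := fun c hc => by
          rw [mem_center_iff]
          intro q
          obtain ⟨g, rfl⟩ := QuotientGroup.mk'_surjective _ q
          exact (hcent c hc g).eq
        have hz1 : ∀ a' ∈ γ k, ∀ v', ⁅ρ a', ρ v'⁆ ∈ center (P ⧸ γ (k + 1 + 1)) := fun a' ha' v' => by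
          rw [← map_commutatorElement]
          refine hcz _ ?_
          rw [Subgroup.lowerCentralSeries_succ]; exact commutator_mem_commutator ha' (mem_top v')
        -- `ψ a = c * a ^ e`, `ψ v = d * v⁻¹`
        obtain ⟨c, hc', hca⟩ : ∃ c ∈ γ (k + 1), ψ a = c * a ^ ((-1 : ℤ) ^ (k + 1)) :=
          ⟨_, ih a ha, by group⟩
        obtain ⟨d, hd, hdv⟩ : ∃ d ∈ γ 1, ψ v = d * v⁻¹ :=
          ⟨ψ v * v, (QuotientGroup.eq_one_iff _).1
            (show π (ψ v * v) = 1 by rw [map_mul, hψall, inv_mul_cancel]), by group⟩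
        set e : ℤ := (-1 : ℤ) ^ (k + 1) with he
        have hae : a ^ e ∈ γ k := zpow_mem ha e
        have h1 : ⁅ρ (ψ a), ρ (ψ v)⁆ = ⁅ρ (a ^ e), ρ (ψ v)⁆ := by
          rw [hca, map_mul, CfsgLib.PGroup.commutatorElement_mul_left_of_central _ _ _ (hz1 _ hae _),
            (commutatorElement_eq_one_iff_commute).2 ((hcent c hc' (ψ v)).symm), one_mul]
        have h2 : ⁅ρ (a ^ e), ρ (ψ v)⁆ = ⁅ρ (a ^ e), ρ v⁻¹⁆ := by
          have hcomm1 : ⁅ρ (a ^ e), ρ d⁆ = 1 := by
            rw [← map_commutatorElement]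
            refine (QuotientGroup.eq_one_iff _).2 ?_
            exact CfsgLib.HallPetrescu82.lcs_commutator k 1 (commutator_mem_commutator hae hd)
          rw [hdv, map_mul, CfsgLib.PGroup.commutatorElement_mul_right_of_central _ _ _ (hz1 _ hae _),
            hcomm1, one_mul]
        rw [h1, h2]
        have hbil : ∀ v' : P, ⁅ρ (a ^ e), ρ v'⁆ = ⁅ρ a, ρ v'⁆ ^ e := by
          intro v'
          let f : ↥(γ k) →* center (P ⧸ γ (k + 1 + 1)) :=
            { toFun := fun a' => ⟨⁅ρ (a' : P), ρ v'⁆, hz1 _ a'.2 v'⟩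
              map_one' := Subtype.ext (by
                show ⁅ρ ((1 : ↥(γ k)) : P), ρ v'⁆ = 1
                rw [OneMemClass.coe_one, map_one, commutatorElement_one_left])
              map_mul' := fun a' b' => Subtype.ext (by
                show ⁅ρ ((a' * b' : ↥(γ k)) : P), ρ v'⁆ = _
                rw [Subgroup.coe_mul, map_mul]
                exact CfsgLib.PGroup.commutatorElement_mul_left_of_central _ _ _ (hz1 _ b'.2 v')) }
          have h' : ((f (⟨a, ha⟩ ^ e) : center (P ⧸ γ (k + 1 + 1))) : P ⧸ γ (k + 1 + 1)) =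
              ((f ⟨a, ha⟩ ^ e : center (P ⧸ γ (k + 1 + 1))) : P ⧸ γ (k + 1 + 1)) :=
            congrArg Subtype.val (map_zpow f ⟨a, ha⟩ e)
          rw [SubgroupClass.coe_zpow] at h'
          exact (show ⁅ρ (((⟨a, ha⟩ : ↥(γ k)) ^ e : ↥(γ k)) : P), ρ v'⁆ = ⁅ρ a, ρ v'⁆ ^ e from h')
        rw [hbil v⁻¹]
        have hinv : ⁅ρ a, ρ v⁻¹⁆ = ⁅ρ a, ρ v⁆⁻¹ := by
          refine eq_inv_of_mul_eq_one_left ?_
          rw [← CfsgLib.PGroup.commutatorElement_mul_right_of_central _ _ _ (hz1 _ ha _), ← map_mul,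
            inv_mul_cancel, map_one, commutatorElement_one_right]
        rw [hinv, inv_zpow', he]
        congr 1
        rw [pow_succ (-1 : ℤ) (k + 1)]
        ring
      refine (QuotientGroup.eq_one_iff _).1 ?_
      show ρ (ψ u * (u ^ ((-1 : ℤ) ^ (k + 1 + 1)))⁻¹) = 1
      rw [map_mul, map_inv, map_zpow, (hle hu).2, mul_inv_cancel]
  have h := key (n - 2) x₀ (by rw [hlast]; exact hx₀)
  rw [show n - 2 + 1 = n - 1 by omega, hbot, mem_bot, mul_inv_eq_one, hA ψ hψA] at h
  obtain ⟨m, hm⟩ := heven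
  rw [show n - 1 = 2 * (m - 1) + 1 by omega, pow_succ, pow_mul] at h
  simp only [neg_one_sq, one_pow, one_mul, zpow_neg, zpow_one] at h
  have h2 : x₀ ^ 2 = 1 := by rw [sq]; nth_rewrite 2 [h]; rw [mul_inv_cancel]
  have := orderOf_dvd_of_pow_eq_one h2
  rw [hx₀p] at this
  norm_num at this

end CfsgLib.LocalEvenSix.IsoRankTwo
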