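import Cfsg.Agent.Lib.LocalEvenSix.IsoRankTwo.Basic

/-!
# The two families of presentations
-/

set_option autoImplicit false
set_option linter.unusedSectionVars false

namespace CfsgLib.LocalEvenSix.IsoRankTwo

open Subgroup
open scoped commutatorElement

variable {p : ℕ} [hp : Fact p.Prime] {P : Type*} [Group P] [Finite P]

/-- No group of automorphisms fixing `x₀` moves everything modulo the Frattini subgroup. -/
def Stuck (P : Type*) [Group P] (x₀ : P) : Prop :=
  WY P ∧ ∀ A : Subgroup (MulAut P), (∀ φ ∈ A, φ x₀ = x₀) →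
    ∃ M : Subgroup P, M.Normal ∧ frattini P ≤ M ∧ ∃ z, z ∉ M ∧ ∀ φ ∈ A, φ z * z⁻¹ ∈ M

theorem eq_one_of_pow_commute {a b : P} (ha : a ^ p = 1) (hne : ¬ Commute a b) {u : P}
    (hu : u ∈ zpowers a) (hc : Commute u b) : u = 1 := by
  by_contra h1
  obtain ⟨i, rfl⟩ := mem_zpowers_iff.1 hu
  have hup : (a ^ i) ^ p = 1 := by
    rw [← zpow_natCast, ← zpow_mul, mul_comm, zpow_mul, zpow_natCast, ha, one_zpow]
  have ha1 : a ≠ 1 := fun e => h1 (by rw [e, one_zpow])
  have e : zpowers (a ^ i) = zpowers a := eq_of_le_of_card_ge (zpowers_le.2 (zpow_mem (mem_zpowers a) i))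
    (by rw [Nat.card_zpowers, Nat.card_zpowers, orderOf_eq_prime hup h1, orderOf_eq_prime ha ha1])
  have : a ∈ zpowers (a ^ i) := e ▸ mem_zpowers a
  obtain ⟨j, hj⟩ := mem_zpowers_iff.1 this
  exact hne (hj ▸ hc.zpow_left j)

theorem normalizer_of_conj' {H : Subgroup P} {x : P} (h : ∀ u ∈ H, x⁻¹ * u * x ∈ H) :
    x ∈ normalizer (H : Set P) := by
  rw [← inv_inv x]
  refine inv_mem (CfsgLib.Coprime.mem_normalizer_of_forall_conj fun u hu => ?_)
  simpa using h u hu

theorem conj_mem_of_generators {x : P} {S : Set P} {H : Subgroup P} (hH : H ≤ closure S)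
    (hS : ∀ u ∈ S, x⁻¹ * u * x ∈ H) {u : P} (hu : u ∈ H) : x⁻¹ * u * x ∈ H := by
  have h : closure S ≤ H.comap (MulAut.conj x⁻¹).toMonoidHom := (closure_le _).2 fun v hv => by
    simpa using hS v hv
  simpa using h (hH hu)

/-- The data of the first family. -/
theorem presTwo {n : ℕ} (hcard : Nat.card P = p ^ n) (hn : 3 ≤ n) {x y z : P}
    (hgen : closure ({x, y, z} : Set P) = ⊤) (hx : x ^ p = 1) (hy : y ^ p = 1)
    (hz : z ^ p ^ (n - 2) = 1) (hxz : x * z = z * x) (hyz : y * z = z * y)
    (hrel : x⁻¹ * y * x = y * z ^ p ^ (n - 3)) :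
    orderOf z = p ^ (n - 2) ∧ center P = zpowers z ∧ z ^ p ^ (n - 3) ≠ 1 ∧
      (∀ u v : P, ⁅u, v⁆ ∈ zpowers z) := by
  set B := zpowers y ⊔ zpowers z with hB
  have hBz : ∀ u ∈ zpowers y, ∀ v ∈ zpowers z, u * v = v * u := by
    intro u hu v hv
    obtain ⟨i, rfl⟩ := mem_zpowers_iff.1 hu
    obtain ⟨j, rfl⟩ := mem_zpowers_iff.1 hv
    exact ((Commute.zpow_zpow (show Commute y z from hyz)) i j).eq
  have hyn : zpowers y ≤ normalizer (zpowers z : Set P) := fun u hu =>
    normalizer_of_conj' fun v hv => by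
      rw [mul_assoc, ← hBz u hu v hv, inv_mul_cancel_left]; exact hv
  have hBgen : B ≤ closure ({y, z} : Set P) :=
    sup_le (zpowers_le.2 (subset_closure (by simp))) (zpowers_le.2 (subset_closure (by simp)))
  have hyB : y ∈ B := mem_sup_left (mem_zpowers y)
  have hzB : z ∈ B := mem_sup_right (mem_zpowers z)
  have hxB : zpowers x ≤ normalizer (B : Set P) := zpowers_le.2 (normalizer_of_conj' fun u hu =>
    conj_mem_of_generators hBgen (fun v hv => by
      rcases hv with rfl | rfl
      · rw [hrel]; exact mul_mem hyB (pow_mem hzB _)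
      · rw [mul_assoc, ← hxz, inv_mul_cancel_left]; exact hzB) hu)
  have htop : zpowers x ⊔ B = ⊤ := by
    rw [eq_top_iff, ← hgen, closure_le]
    rintro u (rfl | rfl | rfl)
    exacts [mem_sup_left (mem_zpowers _), mem_sup_right hyB, mem_sup_right hzB]
  have h1 : p ^ n ≤ p * (p * orderOf z) := by
    have := card_sup_le hxB
    rw [htop, card_top, hcard] at this
    refine this.trans (Nat.mul_le_mul (card_zpowers_le_of_pow_eq_one hx hp.out.pos) ((card_sup_le hyn).trans
      (Nat.mul_le_mul (card_zpowers_le_of_pow_eq_one hy hp.out.pos) (Nat.card_zpowers z).le)))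
  have hordz : orderOf z = p ^ (n - 2) := by
    refine Nat.le_antisymm (orderOf_le_of_pow_eq_one (pow_pos hp.out.pos _) hz) ?_
    rw [show n = n - 2 + 2 by omega, pow_add, show p * (p * orderOf z) = orderOf z * p ^ 2 by ring] at h1
    exact Nat.le_of_mul_le_mul_right h1 (pow_pos hp.out.pos 2)
  have hzp : z ^ p ^ (n - 3) ≠ 1 := fun e => by
    have hd := orderOf_dvd_of_pow_eq_one e
    rw [hordz] at hd
    have := (Nat.pow_dvd_pow_iff_le_right hp.out.one_lt).1 hd
    omega
  have hxy : ¬ Commute x y := fun h => hzp (by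
    rw [mul_assoc, ← h.eq, inv_mul_cancel_left] at hrel
    exact mul_eq_left.1 hrel.symm)
  have hzc : z ∈ center P := by
    rw [mem_center_iff]
    intro g
    have hg : g ∈ closure ({x, y, z} : Set P) := hgen ▸ mem_top g
    induction hg using closure_induction with
    | mem v hv =>
      rcases hv with rfl | rfl | rfl
      exacts [hxz, hyz, rfl]
    | one => simp
    | mul a b _ _ i1 i2 => rw [mul_assoc, i2, ← mul_assoc, i1, mul_assoc]
    | inv a _ i1 => exact (Commute.inv_left (show Commute a z from i1)).eq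
  have hBc : ∀ u ∈ B, Commute u y := by
    intro u hu
    obtain ⟨a, ha, b, hb, rfl⟩ := CfsgLib.Coprime.exists_mul_of_mem_sup hyn hu
    obtain ⟨i, rfl⟩ := mem_zpowers_iff.1 ha
    obtain ⟨j, rfl⟩ := mem_zpowers_iff.1 hb
    exact Commute.mul_left (Commute.zpow_left (Commute.refl y) i)
      (Commute.zpow_left (show Commute z y from hyz.symm) j)
  have hcen : center P = zpowers z := by
    refine le_antisymm (fun c hc => ?_) (zpowers_le.2 hzc)
    have hcc : ∀ g, Commute c g := fun g => (mem_center_iff.1 hc g).symm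
    obtain ⟨u, hu, b, hb, rfl⟩ := CfsgLib.Coprime.exists_mul_of_mem_sup hxB (htop ▸ mem_top c)
    have hu1 : u = 1 := eq_one_of_pow_commute hx hxy hu (by
      have := (hcc y).mul_left (hBc b hb).inv_left
      simpa using this)
    subst hu1
    rw [one_mul] at hcc ⊢
    obtain ⟨a, ha, w, hw, rfl⟩ := CfsgLib.Coprime.exists_mul_of_mem_sup hyn hb
    have ha1 : a = 1 := eq_one_of_pow_commute hy (fun h => hxy h.symm) ha (by
      have hwx : Commute w x := by
        obtain ⟨j, rfl⟩ := mem_zpowers_iff.1 hw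
        exact Commute.zpow_left (show Commute z x from hxz.symm) j
      have := (hcc x).mul_left hwx.inv_left
      simpa using this)
    subst ha1
    rw [one_mul]; exact hw
  refine ⟨hordz, hcen, hzp, ?_⟩
  haveI hZn : (zpowers z).Normal := hcen ▸ inferInstance
  set π := QuotientGroup.mk' (zpowers z)
  have hab : ∀ u v : P, Commute (π u) (π v) := by
    intro u v
    have hu : u ∈ closure ({x, y, z} : Set P) := hgen ▸ mem_top u
    have hv : v ∈ closure ({x, y, z} : Set P) := hgen ▸ mem_top v
    have hz1 : π z = 1 := (QuotientGroup.eq_one_iff z).2 (mem_zpowers z)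
    have hxy' : Commute (π x) (π y) := by
      show π x * π y = π y * π x
      rw [← map_mul π x y, ← map_mul π y x]
      refine QuotientGroup.eq.2 ?_
      have : (x * y)⁻¹ * (y * x) = z ^ p ^ (n - 3) := by
        have : (x * y)⁻¹ * (y * x) = y⁻¹ * (x⁻¹ * y * x) := by group
        rw [this, hrel, inv_mul_cancel_left]
      rw [this]
      exact pow_mem (mem_zpowers z) _
    have hgens : ∀ a ∈ ({x, y, z} : Set P), ∀ b ∈ ({x, y, z} : Set P), Commute (π a) (π b) := by
      intro a ha b hb
      simp only [Set.mem_insert_iff, Set.mem_singleton_iff] at ha hb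
      rcases ha with rfl | rfl | rfl <;> rcases hb with rfl | rfl | rfl
      all_goals first
        | exact Commute.refl _
        | exact hxy'
        | exact hxy'.symm
        | (rw [hz1]; exact Commute.one_left _)
        | (rw [hz1]; exact Commute.one_right _)
    induction hu, hv using closure_induction₂ with
    | mem a b ha hb => exact hgens a ha b hb
    | one_left a _ => rw [map_one]; exact Commute.one_left _
    | one_right a _ => rw [map_one]; exact Commute.one_right _
    | mul_left a b c _ _ _ i1 i2 => rw [map_mul]; exact i1.mul_left i2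
    | mul_right a b c _ _ _ i1 i2 => rw [map_mul]; exact i1.mul_right i2
    | inv_left a b _ _ i1 => rw [map_inv]; exact i1.inv_left
    | inv_right a b _ _ i1 => rw [map_inv]; exact i1.inv_right
  intro u v
  have := (commutatorElement_eq_one_iff_commute).2 (hab u v)
  rw [← map_commutatorElement] at this
  exact (QuotientGroup.eq_one_iff _).1 this

/-- Powers congruent to `1` modulo `p` differ by a `p`-th power. -/
theorem zpow_div_mem_frattini (hP : IsPGroup p P) {z : P} {k : ℕ} (hz : z ^ p ^ k ≠ 1) (hz' : (z ^ p ^ k) ^ p = 1)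
    {a : ℤ} (ha : (z ^ p ^ k) ^ a = z ^ p ^ k) : z ^ (a - 1) ∈ frattini P := by
  have h : ((orderOf (z ^ p ^ k) : ℕ) : ℤ) ∣ a - 1 :=
    orderOf_dvd_iff_zpow_eq_one.2 (by rw [zpow_sub, zpow_one, ha, mul_inv_cancel])
  rw [orderOf_eq_prime hz' hz] at h
  obtain ⟨m, hm⟩ := h
  rw [hm, mul_comm, zpow_mul, zpow_natCast]
  exact CfsgLib.PGroup.pow_mem_frattini hP _

theorem presTwo_stuck {n : ℕ} (hp2 : p ≠ 2) (hcard : Nat.card P = p ^ n) (hn : 4 ≤ n) {x y z x₀ : P}
    (hgen : closure ({x, y, z} : Set P) = ⊤) (hx : x ^ p = 1) (hy : y ^ p = 1)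
    (hz : z ^ p ^ (n - 2) = 1) (hxz : x * z = z * x) (hyz : y * z = z * y)
    (hrel : x⁻¹ * y * x = y * z ^ p ^ (n - 3)) (hx₀ : x₀ ∈ center P) (hx₀p : orderOf x₀ = p) :
    Stuck P x₀ := by
  have hP : IsPGroup p P := IsPGroup.of_card hcard
  obtain ⟨hord, hcen, hzp, hcom⟩ := presTwo hcard (by omega) hgen hx hy hz hxz hyz hrel
  set z' := z ^ p ^ (n - 3) with hz'
  have hz'p : z' ^ p = 1 := by
    rw [hz', ← pow_mul, ← pow_succ, show n - 3 + 1 = n - 2 by omega, hz]
  have hsame : z' ∈ zpowers x₀ := by
    have hle : zpowers x₀ ≤ zpowers z := zpowers_le.2 (hcen ▸ hx₀)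
    have hx₀z : x₀ ∈ zpowers z' := by
      obtain ⟨k, hk⟩ := mem_zpowers_iff.1 (hle (mem_zpowers x₀))
      have h1 : z ^ (k * p) = 1 := by
        rw [zpow_mul, hk, zpow_natCast, ← hx₀p, pow_orderOf_eq_one]
      have h2 := orderOf_dvd_iff_zpow_eq_one.2 h1
      rw [hord, show n - 2 = n - 3 + 1 by omega, pow_succ, Nat.cast_mul] at h2
      obtain ⟨m, hm⟩ := Int.dvd_of_mul_dvd_mul_right (by exact_mod_cast hp.out.ne_zero) h2
      exact mem_zpowers_iff.2 ⟨m, by rw [← hk, hm, hz', ← zpow_natCast, ← zpow_mul]⟩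
    have e : zpowers x₀ = zpowers z' := eq_of_le_of_card_ge (zpowers_le.2 hx₀z)
      (by rw [Nat.card_zpowers, Nat.card_zpowers, hx₀p, orderOf_eq_prime hz'p hzp])
    rw [e]; exact mem_zpowers z'
  refine ⟨fun w u W hW => ?_, fun A hA => ⟨frattini P, inferInstance, le_rfl, z, ?_, fun φ hφ => ?_⟩⟩
  · have h1 : step w u ∈ center P := by rw [hcen, step_eq]; exact hcom _ _
    have h2 : step w (step w u) = 1 := by
      have hc := mem_center_iff.1 h1 w⁻¹
      rw [step_eq w (step w u), commutatorElement_eq_one_iff_mul_comm]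
      exact ((Commute.inv_left (show Commute (step w u) w⁻¹ from hc.symm))).eq
    rw [h2]; exact one_mem _
  · intro hzΦ
    have htop : closure ({x, y} : Set P) = ⊤ := frattini_nongenerating (by
      rw [eq_top_iff, ← hgen, closure_le]
      rintro u (rfl | rfl | rfl)
      exacts [mem_sup_left (subset_closure (by simp)), mem_sup_left (subset_closure (by simp)),
        mem_sup_right hzΦ])
    have hzc : z ^ p = 1 := CfsgLib.PGroup.pow_eq_one_of_mem_closure_class_two
      (hp.out.odd_of_ne_two hp2) (fun u v => hcen ▸ hcom u v) ({x, y} : Set P)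
      (fun u hu => by rcases hu with rfl | rfl <;> assumption) (htop ▸ mem_top z)
    have hd := orderOf_dvd_of_pow_eq_one hzc
    rw [hord] at hd
    have := (Nat.pow_dvd_pow_iff_le_right hp.out.one_lt).1 (hd.trans (pow_one p).symm.dvd)
    omega
  · have hcz : φ z ∈ center P := by
      rw [mem_center_iff]
      intro g
      obtain ⟨g, rfl⟩ := φ.surjective g
      have hzc : z ∈ center P := hcen ▸ mem_zpowers z
      rw [← map_mul, ← map_mul, mem_center_iff.1 hzc g]
    rw [hcen, mem_zpowers_iff] at hcz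
    obtain ⟨a, ha⟩ := hcz
    rw [← ha, show z ^ a * z⁻¹ = z ^ (a - 1) by rw [zpow_sub, zpow_one]]
    refine zpow_div_mem_frattini hP hzp hz'p ?_
    obtain ⟨j, hj⟩ := mem_zpowers_iff.1 hsame
    have hfix : φ z' = z' := by rw [← hj, map_zpow, hA φ hφ]
    rw [hz', map_pow, ← ha] at hfix
    refine Eq.trans ?_ hfix
    simp only [← zpow_natCast, ← zpow_mul]
    rw [mul_comm]

theorem presThree_stuck {n : ℕ} (hcard : Nat.card P = p ^ n) (hrk : Cfsg.PRankLE p 2 P) (hn : 4 ≤ n)
    {s : ℕ} (hs : s = 1 ∨ ¬ IsSquare (s : ZMod p)) {x y z x₀ : P}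
    (hgen : closure ({x, y, z} : Set P) = ⊤) (hx : x ^ p = 1) (hy : y ^ p = 1)
    (hz : z ^ p ^ (n - 2) = 1) (hyz : y * z = z * y)
    (hrel : x⁻¹ * y * x = y * z ^ (s * p ^ (n - 3))) (hrel' : x⁻¹ * z * x = y * z)
    (hx₀ : x₀ ∈ center P) (hx₀p : orderOf x₀ = p) : Stuck P x₀ := by
  have hP : IsPGroup p P := IsPGroup.of_card hcard
  set z' := z ^ p ^ (n - 3) with hz'
  have hrel2 : x⁻¹ * y * x = y * z' ^ s := by rw [hrel, hz', ← pow_mul, mul_comm s]
  set B := zpowers y ⊔ zpowers z with hB
  have hBz : ∀ u ∈ zpowers y, ∀ v ∈ zpowers z, u * v = v * u := by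
    intro u hu v hv
    obtain ⟨i, rfl⟩ := mem_zpowers_iff.1 hu
    obtain ⟨j, rfl⟩ := mem_zpowers_iff.1 hv
    exact ((Commute.zpow_zpow (show Commute y z from hyz)) i j).eq
  have hyn : zpowers y ≤ normalizer (zpowers z : Set P) := fun u hu =>
    normalizer_of_conj' fun v hv => by
      rw [mul_assoc, ← hBz u hu v hv, inv_mul_cancel_left]; exact hv
  have hBgen : B ≤ closure ({y, z} : Set P) :=
    sup_le (zpowers_le.2 (subset_closure (by simp))) (zpowers_le.2 (subset_closure (by simp)))
  have hyB : y ∈ B := mem_sup_left (mem_zpowers y)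
  have hzB : z ∈ B := mem_sup_right (mem_zpowers z)
  have hxB : zpowers x ≤ normalizer (B : Set P) := zpowers_le.2 (normalizer_of_conj' fun u hu =>
    conj_mem_of_generators hBgen (fun v hv => by
      rcases hv with rfl | rfl
      · rw [hrel]; exact mul_mem hyB (pow_mem hzB _)
      · rw [hrel']; exact mul_mem hyB hzB) hu)
  have htop : zpowers x ⊔ B = ⊤ := by
    rw [eq_top_iff, ← hgen, closure_le]
    rintro u (rfl | rfl | rfl)
    exacts [mem_sup_left (mem_zpowers _), mem_sup_right hyB, mem_sup_right hzB]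
  have hy0 : Nat.card (zpowers y) ≤ p := card_zpowers_le_of_pow_eq_one hy hp.out.pos
  have hord : orderOf z = p ^ (n - 2) := by
    refine Nat.le_antisymm (orderOf_le_of_pow_eq_one (pow_pos hp.out.pos _) hz) ?_
    have h1 : p ^ n ≤ p * (p * orderOf z) := by
      have := card_sup_le hxB
      rw [htop, card_top, hcard] at this
      exact this.trans (Nat.mul_le_mul (card_zpowers_le_of_pow_eq_one hx hp.out.pos)
        ((card_sup_le hyn).trans (Nat.mul_le_mul hy0 (Nat.card_zpowers z).le)))
    rw [show n = n - 2 + 2 by omega, pow_add, show p * (p * orderOf z) = orderOf z * p ^ 2 by ring] at h1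
    exact Nat.le_of_mul_le_mul_right h1 (pow_pos hp.out.pos 2)
  have hzp : z' ≠ 1 := fun e => by
    have hd := orderOf_dvd_of_pow_eq_one e
    rw [hord] at hd
    have := (Nat.pow_dvd_pow_iff_le_right hp.out.one_lt).1 hd
    omega
  have hz'p : z' ^ p = 1 := by
    rw [hz', ← pow_mul, ← pow_succ, show n - 3 + 1 = n - 2 by omega, hz]
  have hps : ¬ p ∣ s := by
    intro hd
    rcases hs with rfl | hs
    · exact hp.out.not_dvd_one hd
    · exact hs ⟨0, by rw [(ZMod.natCast_eq_zero_iff s p).2 hd, mul_zero]⟩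
  have hzs : z' ^ s ≠ 1 := fun e => hps (orderOf_eq_prime hz'p hzp ▸ orderOf_dvd_of_pow_eq_one e)
  have hxy : ¬ Commute x y := fun h => hzs (by
    rw [mul_assoc, ← h.eq, inv_mul_cancel_left] at hrel2
    exact mul_eq_left.1 hrel2.symm)
  have hyz' : Commute y z' := (show Commute y z from hyz).pow_right _
  have hxz' : Commute x z' := by
    have h1 : x⁻¹ * z' * x = z' := by
      have : x⁻¹ * z' * x = (x⁻¹ * z * x) ^ p ^ (n - 3) := by
        rw [hz']
        have := map_pow (MulAut.conj x⁻¹) z (p ^ (n - 3))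
        simpa using this
      rw [this, hrel', Commute.mul_pow hyz, hz']
      rw [show p ^ (n - 3) = p * p ^ (n - 4) by rw [← pow_succ']; congr 1; omega, pow_mul y, hy, one_pow, one_mul]
    show x * z' = z' * x
    conv_lhs => rw [← h1]
    group
  have hz'c : z' ∈ center P := by
    rw [mem_center_iff]
    intro g
    have hg : g ∈ closure ({x, y, z} : Set P) := hgen ▸ mem_top g
    induction hg using closure_induction with
    | mem v hv =>
      rcases hv with rfl | rfl | rfl
      exacts [hxz'.eq, hyz'.eq, ((Commute.refl v).pow_right _).eq]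
    | one => simp
    | mul a b _ _ i1 i2 => rw [mul_assoc, i2, ← mul_assoc, i1, mul_assoc]
    | inv a _ i1 => exact (Commute.inv_left (show Commute a z' from i1)).eq
  have hyz1 : y ∉ zpowers z' := fun h => hxy (by
    obtain ⟨i, rfl⟩ := mem_zpowers_iff.1 h
    exact hxz'.zpow_right i)
  have hcen : ∀ c ∈ center P, c ^ p = 1 → c ∈ zpowers z' := by
    intro c hc hcp
    have hcc : ∀ g, Commute c g := fun g => (mem_center_iff.1 hc g).symm
    have hmem := mem_closure_pair hrk hyz'.symm.eq (hcc z').eq (hcc y).eq hz'p hy hcp hzp hyz1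
    have hne : zpowers z' ≤ normalizer (zpowers y : Set P) := fun u hu => normalizer_of_conj' fun v hv => by
      obtain ⟨i, rfl⟩ := mem_zpowers_iff.1 hu
      obtain ⟨j, rfl⟩ := mem_zpowers_iff.1 hv
      rw [mul_assoc, ((hyz'.zpow_zpow j i)).eq, inv_mul_cancel_left]; exact zpow_mem (mem_zpowers y) j
    rw [Set.insert_eq, Subgroup.closure_union, ← zpowers_eq_closure, ← zpowers_eq_closure] at hmem
    obtain ⟨u, hu, v, hv, rfl⟩ := CfsgLib.Coprime.exists_mul_of_mem_sup hne hmem
    have hv1 : v = 1 := eq_one_of_pow_commute hy (fun h => hxy h.symm) hv (by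
      have hux : Commute u x := by
        obtain ⟨i, rfl⟩ := mem_zpowers_iff.1 hu
        exact hxz'.symm.zpow_left i
      have := hux.inv_left.mul_left (hcc x)
      simpa using this)
    rw [hv1, mul_one]; exact hu
  have hsame : z' ∈ zpowers x₀ := by
    have hx₀' : x₀ ^ p = 1 := hx₀p ▸ pow_orderOf_eq_one x₀
    have e : zpowers x₀ = zpowers z' := eq_of_le_of_card_ge (zpowers_le.2 (hcen x₀ hx₀ hx₀'))
      (by rw [Nat.card_zpowers, Nat.card_zpowers, hx₀p, orderOf_eq_prime hz'p hzp])
    rw [e]; exact mem_zpowers z'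
  -- the quotient by `⟨z'⟩`
  set Z := zpowers z' with hZ
  haveI hZn : Z.Normal := ⟨fun u hu g => by
    obtain ⟨i, rfl⟩ := mem_zpowers_iff.1 hu
    have := mem_center_iff.1 (zpow_mem hz'c i) g
    rw [this, mul_inv_cancel_right]; exact zpow_mem (mem_zpowers z') i⟩
  set π := QuotientGroup.mk' Z
  have hz'1 : π z' = 1 := (QuotientGroup.eq_one_iff z').2 (mem_zpowers z')
  have hπy : ∀ g, Commute (π g) (π y) := by
    intro g
    have hg : g ∈ closure ({x, y, z} : Set P) := hgen ▸ mem_top g
    induction hg using closure_induction with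
    | mem v hv =>
      rcases hv with rfl | rfl | rfl
      · have h := congrArg π hrel2
        rw [map_mul, map_mul, map_inv, map_mul, map_pow, hz'1, one_pow, mul_one] at h
        show π v * π y = π y * π v
        conv_lhs => rw [← h]
        group
      · exact Commute.refl _
      · exact ((show Commute y v from hyz).symm).map π
    | one => rw [map_one]; exact Commute.one_left _
    | mul a b _ _ i1 i2 => rw [map_mul]; exact i1.mul_left i2
    | inv a _ i1 => rw [map_inv]; exact i1.inv_left
  set Y := zpowers (π y) with hY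
  haveI hYn : Y.Normal := ⟨fun u hu g => by
    obtain ⟨i, rfl⟩ := mem_zpowers_iff.1 hu
    obtain ⟨g, rfl⟩ := QuotientGroup.mk'_surjective Z g
    rw [((hπy g).zpow_right i).eq, mul_inv_cancel_right]; exact zpow_mem (mem_zpowers _) i⟩
  set ρ := (QuotientGroup.mk' Y).comp π
  have hρy : ρ y = 1 := (QuotientGroup.eq_one_iff (π y)).2 (mem_zpowers _)
  have hρ : ∀ u v, Commute (ρ u) (ρ v) := by
    intro u v
    have hu : u ∈ closure ({x, y, z} : Set P) := hgen ▸ mem_top u
    have hv : v ∈ closure ({x, y, z} : Set P) := hgen ▸ mem_top v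
    have hxz : Commute (ρ x) (ρ z) := by
      have h := congrArg ρ hrel'
      rw [map_mul, map_mul, map_inv, map_mul, hρy, one_mul] at h
      show ρ x * ρ z = ρ z * ρ x
      conv_lhs => rw [← h]
      group
    have hgens : ∀ a ∈ ({x, y, z} : Set P), ∀ b ∈ ({x, y, z} : Set P), Commute (ρ a) (ρ b) := by
      intro a ha b hb
      simp only [Set.mem_insert_iff, Set.mem_singleton_iff] at ha hb
      rcases ha with rfl | rfl | rfl <;> rcases hb with rfl | rfl | rfl
      all_goals first
        | exact Commute.refl _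
        | exact hxz
        | exact hxz.symm
        | (rw [hρy]; exact Commute.one_left _)
        | (rw [hρy]; exact Commute.one_right _)
    induction hu, hv using closure_induction₂ with
    | mem a b ha hb => exact hgens a ha b hb
    | one_left a _ => rw [map_one]; exact Commute.one_left _
    | one_right a _ => rw [map_one]; exact Commute.one_right _
    | mul_left a b c _ _ _ i1 i2 => rw [map_mul]; exact i1.mul_left i2
    | mul_right a b c _ _ _ i1 i2 => rw [map_mul]; exact i1.mul_right i2
    | inv_left a b _ _ i1 => rw [map_inv]; exact i1.inv_left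
    | inv_right a b _ _ i1 => rw [map_inv]; exact i1.inv_right
  have hstep2 : ∀ w u, step w (step w u) ∈ Z := by
    intro w u
    have h1 : π (step w u) ∈ Y := by
      refine (QuotientGroup.eq_one_iff _).1 ?_
      show ρ (step w u) = 1
      rw [step_eq, map_commutatorElement, commutatorElement_eq_one_iff_commute]
      exact hρ _ _
    obtain ⟨i, hi⟩ := mem_zpowers_iff.1 h1
    refine (QuotientGroup.eq_one_iff _).1 ?_
    show π (step w (step w u)) = 1
    rw [step_eq w (step w u), map_commutatorElement, commutatorElement_eq_one_iff_commute, map_inv, ← hi]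
    exact (((hπy w⁻¹).zpow_right i).inv_right).symm
  have hcl2 : closure ({x, z} : Set P) = ⊤ := by
    rw [eq_top_iff, ← hgen, closure_le]
    rintro u (rfl | rfl | rfl)
    · exact subset_closure (by simp)
    · have e : u = x⁻¹ * z * x * z⁻¹ := by rw [hrel']; group
      rw [e]
      exact mul_mem (mul_mem (mul_mem (inv_mem (subset_closure (by simp))) (subset_closure (by simp)))
        (subset_closure (by simp))) (inv_mem (subset_closure (by simp)))
    · exact subset_closure (by simp)
  have hzΦ : z ∉ frattini P := by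
    intro hzΦ
    have hxtop : zpowers x = ⊤ := frattini_nongenerating (by
      rw [eq_top_iff, ← hcl2, closure_le]
      rintro u (rfl | rfl)
      exacts [mem_sup_left (mem_zpowers _), mem_sup_right hzΦ])
    obtain ⟨i, hi⟩ := mem_zpowers_iff.1 (hxtop ▸ mem_top y : y ∈ zpowers x)
    exact hxy (hi ▸ (Commute.refl x).zpow_right i)
  have hyΦ : y ∈ frattini P := by
    have e : y = x⁻¹ * z * x * z⁻¹ := by rw [hrel']; group
    rw [e, show x⁻¹ * z * x * z⁻¹ = ⁅x⁻¹, z⁆ by rw [commutatorElement_def, inv_inv]]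
    exact CfsgLib.PGroup.commutator_le_frattini hP (commutator_mem_commutator (mem_top _) (mem_top _))
  refine ⟨fun w u W hW => ?_, fun A hA => ⟨frattini P, inferInstance, le_rfl, z, hzΦ, fun φ hφ => ?_⟩⟩
  · haveI := CfsgLib.PGroup.normal_of_isCoatom hP hW
    have hWc : p ^ 3 ≤ Nat.card W := by
      have h := W.card_mul_index
      rw [CfsgLib.PGroup.index_of_isCoatom hP hW, hcard, show n = n - 1 + 1 by omega, pow_succ] at h
      rw [Nat.eq_of_mul_eq_mul_right hp.out.pos h]
      exact Nat.pow_le_pow_right hp.out.pos (by omega)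
    refine (zpowers_le.2 (mem_of_normal_ne_bot hP (frattini_map_ne_bot hrk hP hWc) ?_ ?_)) (hstep2 w u)
    · exact fun d hd hdp => hcen d hd hdp
    · exact orderOf_eq_prime hz'p hzp
  · have hwc : Commute (φ z) y := by
      -- `y` is in the commutator subgroup, which `z` centralizes
      have hcom : y ∈ commutator P := by
        rw [show y = ⁅x⁻¹, z⁆ by rw [commutatorElement_def, inv_inv, hrel']; group]
        exact commutator_mem_commutator (mem_top _) (mem_top _)
      have hzcom : ∀ v ∈ commutator P, Commute z v := by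
        intro v hv
        have hle : commutator P ≤ centralizer ({z} : Set P) := by
          have hker : commutator P ≤ ρ.ker := by
            rw [_root_.commutator_def, commutator_le]
            intro a _ b _
            rw [MonoidHom.mem_ker, map_commutatorElement, commutatorElement_eq_one_iff_commute]
            exact hρ a b
          refine hker.trans fun v hv => ?_
          have h1 : π v ∈ Y := (QuotientGroup.eq_one_iff _).1 hv
          obtain ⟨i, hi⟩ := mem_zpowers_iff.1 h1
          rw [← map_zpow] at hi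
          obtain ⟨j, hj⟩ := mem_zpowers_iff.1 (QuotientGroup.eq.1 hi)
          rw [mem_centralizer_singleton_iff, show v = y ^ i * z' ^ j by rw [hj]; group]
          exact (((show Commute z y from hyz.symm).zpow_right i).mul_right
            (((Commute.refl z).pow_right _).zpow_right j)).eq.symm
        exact (mem_centralizer_singleton_iff.1 (hle hv)).symm
      obtain ⟨v, rfl⟩ := φ.surjective y
      refine (hzcom v ?_).map φ
      have := mem_map_of_mem φ.symm.toMonoidHom hcom
      rw [characteristic_iff_map_eq.1 inferInstance φ.symm] at this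
      simpa using this
    obtain ⟨u, hu, b, hb, hub⟩ := CfsgLib.Coprime.exists_mul_of_mem_sup hxB (htop ▸ mem_top (φ z))
    obtain ⟨a', ha', c', hc', rfl⟩ := CfsgLib.Coprime.exists_mul_of_mem_sup hyn hb
    have hbc : Commute (a' * c') y := by
      obtain ⟨i, rfl⟩ := mem_zpowers_iff.1 ha'
      obtain ⟨j, rfl⟩ := mem_zpowers_iff.1 hc'
      exact ((Commute.refl y).zpow_left i).mul_left ((show Commute z y from hyz.symm).zpow_left j)
    have hu1 : u = 1 := eq_one_of_pow_commute hx hxy hu (by
      have := hwc.mul_left hbc.inv_left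
      rwa [hub, mul_inv_cancel_right] at this)
    rw [hu1, one_mul] at hub
    obtain ⟨a, ha⟩ := mem_zpowers_iff.1 hc'
    obtain ⟨b₀, hb₀⟩ := mem_zpowers_iff.1 ha'
    have hfix : φ z' = z' := by
      obtain ⟨j, hj⟩ := mem_zpowers_iff.1 hsame
      rw [← hj, map_zpow, hA φ hφ]
    rw [hub, ← ha, mul_assoc, show z ^ a * z⁻¹ = z ^ (a - 1) by rw [zpow_sub, zpow_one]]
    refine mul_mem (hb₀ ▸ zpow_mem hyΦ b₀) (zpow_div_mem_frattini hP hzp hz'p ?_)
    have h1 : φ z' = (y ^ b₀ * z ^ a) ^ p ^ (n - 3) := by rw [hz', map_pow, hub, hb₀, ha]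
    have h2 : (y ^ b₀) ^ p ^ (n - 3) = 1 := by
      rw [show p ^ (n - 3) = p * p ^ (n - 4) by rw [← pow_succ']; congr 1; omega, pow_mul,
        show (y ^ b₀) ^ p = 1 by rw [← zpow_natCast, ← zpow_mul, mul_comm, zpow_mul, zpow_natCast, hy, one_zpow],
        one_pow]
    rw [hfix, ((show Commute y z from hyz).zpow_zpow b₀ a).mul_pow, h2, one_mul] at h1
    refine Eq.trans ?_ h1.symm
    rw [← zpow_natCast, ← zpow_natCast, ← zpow_mul, ← zpow_mul, mul_comm]

end CfsgLib.LocalEvenSix.IsoRankTwo
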